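import Cfsg.Agent.Known.Mon.Hom
import Cfsg.Agent.Known.Mon.C3AD

/-! A centralizer in `Co0`. -/

set_option autoImplicit false
set_option maxRecDepth 1000000
set_option maxHeartbeats 0

namespace CF.Known.Mon.C3A

open Cfsg Subgroup CF.Leech CF.Loc CF.LX CF.Comp CF.Comp.Mat CF.Bt MulAction Spor

theorem chN : ChainGe N0 N1 (2 ^ 12) 12 6 NW (L :: t) 19595520 :=
  ⟨rfl, by decide, by decide, slp_of_slpOK (by decide +kernel), by decide +kernel, by decide +kernel,
    by decide +kernel⟩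

theorem cert : Cert w 3 12 6 19595520 69120 1701 0 Ys As Ts N0 N1 NW L t :=
  ⟨rfl, by decide, by decide +kernel, by decide +kernel, by decide +kernel, by decide +kernel,
    by decide +kernel, by decide +kernel, by decide +kernel, ⟨F, ks, by decide +kernel⟩,
    by decide +kernel, chN, by decide +kernel, by decide +kernel,
    ⟨rs, by decide +kernel, by decide +kernel⟩, by decide +kernel, by decide⟩

theorem xM : Exact D0 a2 M.m cM ⊤ := Exact.rebase M.xM card_M24 (by decide +kernel)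

theorem cent : Nat.card 𝐂₁(ev M.m w) ≤ 1080 :=
  card_cent_top_le xM (by norm_num) (k := 5) (by norm_num) (fw := TF) (kg := TK) (T := T)
    (by decide +kernel)

theorem stab : Nat.card (stabIn 𝐂₁(Leech.permHom (ev M.m w)) w8) ≤ 69120 :=
  card_stab_le w cent (c₂ := 64) (by decide +kernel)

theorem main : CD (Leech.permHom (ev M.m w)) 3 6 69120 ∧
    clo (coEl Ys) (gensW 6) = 𝐂₁(Leech.permHom (ev M.m w)) ∧
    Nat.card 𝐂₁(Leech.permHom (ev M.m w)) = 19595520 * (2 * 3) :=
  cert.main rfl (by norm_num) (by norm_num) (by decide) stab fun _ h => by rw [set_zero] at h; exact h.elim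

theorem chZ : ChainGe Z0 Z1 280 9 6 ZW ZC 6531840 :=
  ⟨rfl, by decide, by decide, slp_of_slpOK (by decide +kernel), by decide +kernel, by decide +kernel,
    by decide +kernel⟩
theorem chU : ChainGe U0 U1 280 9 5 UW UC 3265920 :=
  ⟨rfl, by decide, by decide, slp_of_slpOK (by decide +kernel), by decide +kernel, by decide +kernel,
    by decide +kernel⟩
theorem linU_a : linAll (tabQ 3 2 0) 280 4 UV UA U0 UCs 5 = true := by decide +kernel
theorem linU : LinOK (tabQ 3 2 0) 280 4 5 UV UA U0 :=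
  ⟨⟨Uσ, by decide +kernel⟩, by decide +kernel, by decide +kernel, rfl,
    UCs, by decide +kernel, rfl, linAll_iff.1 linU_a⟩
theorem suU : allFrom (suAt (tabQ 3 2 0) 4 3 UA UD) 0 5 = true := by decide +kernel

theorem pr1 : prOK Ts1 378 0 0 = true := by decide +kernel

theorem reps1 : Reps (wDom Ts1 378 pr1) M0 (coEl Ys) :=
  reps_wDom pr1 cert.co (by decide +kernel) (by decide +kernel)

theorem fix1 {g : Co0} (hg : g ∈ KK (Leech.permHom (ev M.m w))) (i : ℕ) (hi : i < 378) :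
    g • (wDom Ts1 378 pr1).pt i = (wDom Ts1 378 pr1).pt i := KK_fix hg (by
  have := (reps1.acts_ev [1]).2 i hi
  rwa [reps1.wf.idW (k := 9) (by norm_num) (by decide +kernel), ev_single _ 0, cert.zero] at this)

open _root_.Classical in
/-- the isotropic points -/
noncomputable def D2 : Dom (Finset W2) 280 :=
  (wDom Ts1 378 pr1).inc Us 280 (by decide +kernel) (by decide +kernel)

open _root_.Classical Pointwise in
theorem reps2 : Reps D2 Z0 (coEl Ys) := reps1.inc _ _ (by decide +kernel)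

open _root_.Classical Pointwise in
theorem data {K : Type} [Field K] [Fintype K] (hK : Fintype.card K = 9) :
    ∃ (S₁ N₀ : Subgroup 𝐂₁(Leech.permHom (ev M.m w))) (_ : N₀.Normal),
      (KK (Leech.permHom (ev M.m w))).subgroupOf _ ≤ N₀ ∧ N₀ ≤ S₁ ∧ S₁.index = 2 ∧
      Nat.card N₀ = 18 ∧ ∃ φ : S₁ →* PSU 4 K 3, Function.Surjective φ ∧
        ∀ x, φ x = 1 ↔ (x : 𝐂₁(Leech.permHom (ev M.m w))) ∈ N₀ := by
  obtain ⟨D, hA, hS⟩ := main
  have fS := cert.mem (by norm_num) (by norm_num)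
  have hK' : Fintype.card K = 3 ^ 2 := hK
  obtain ⟨el, hT⟩ := exists_ok_nine hK
  have cK : Nat.card (PSU 4 K 3) = 3265920 := by
    have := card_PSU_mul hK' (d := 4) (by norm_num)
    rw [show (∏ i ∈ Finset.range 4, if Even i then 3 ^ (i + 1) + 1 else 3 ^ (i + 1) - 1) = 71680 by
      decide, show Nat.gcd 4 (3 + 1) = 4 from rfl] at this
    omega
  set f' : ℕ → Co0 := fun i => (List.map (coEl Ys) [0, 1, 2, 3, 4]).getD i 1 with hf'
  have f'1 : ∀ i, 5 ≤ i → f' i = 1 := fun i hi => List.getD_eq_default _ _ hi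
  obtain ⟨φ, φs, φk⟩ := chU.exists_surj (reps2.sel [0, 1, 2, 3, 4]) f'1
    (linU.hasReps_PSU hT hK' (by norm_num) suU) cK.le
  have fe : ∀ i < 5, f' i = coEl Ys i := fun i hi => by interval_cases i <;> rfl
  have g0 : ∀ i < 5, coEl Ys i ∈ clo f' (gensW 5) := fun i hi =>
    fe i hi ▸ ev_single f' i ▸ ev_mem_clo _ (mem_gensW hi)
  have hA1 : clo f' (gensW 5) ≤ 𝐂₁(Leech.permHom (ev M.m w)) :=
    clo_le.2 fun v _ => ev_mem (fun i => by
      by_cases hi : i < 5
      · exact fe i hi ▸ fS i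
      · exact f'1 i (not_lt.1 hi) ▸ one_mem _) v
  let N := 𝐂₁(Leech.permHom (ev M.m w)) ⊓ fixingSubgroup Co0 (D2.set (full 280))
  have mN : ∀ {g : Co0}, g ∈ fixingSubgroup Co0 (D2.set (full 280)) ↔ ∀ i < 280, g • D2.pt i = D2.pt i :=
    ⟨fun h i hi => h ⟨_, Dom.mem_set_full.2 ⟨i, hi, rfl⟩⟩, fun h x => by
      obtain ⟨i, hi, e⟩ := Dom.mem_set_full.1 x.2
      exact (congrArg _ e.symm).trans ((h i hi).trans e)⟩
  have k1 : KK (Leech.permHom (ev M.m w)) ≤ clo f' (gensW 5) ⊓ N := le_inf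
    (KK_le (cert.zero ▸ g0 0 (by norm_num)) (cert.one ▸ g0 1 (by norm_num)))
    (le_inf (KK_le_cent _) fun g hg => mN.2 fun i _ => smul_inc_pt (fix1 hg) i)
  have c1 := chain_mul_le reps1 (by norm_num) (c := [⟨0, [[5]], 2⟩]) (H := clo f' (gensW 5) ⊓ N)
    (by decide +kernel) (fun v hv => by
      obtain rfl : v = [2 * 2 + 1] := List.mem_singleton.1 (show v ∈ [[5]] from hv)
      refine ⟨ev_single (coEl Ys) 2 ▸ g0 2 (by norm_num), ev_mem fS _, mN.2 fun i hi => ?_⟩
      have := (reps2.acts_ev [5]).2 i hi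
      rwa [reps2.wf.idW (k := 9) (by norm_num) (by decide +kernel)] at this) k1
    fun g hg L hL => fix1 hg _ (by rw [List.mem_singleton.1 hL]; norm_num)
  have c2 := chain_mul_le (chZ.reps reps2 cert.ge) (by norm_num) (K := N) chZ.ok
    (fun v _ => ev_mem (slp_mem fS _ _) v) inf_le_left
    fun g hg L hL => mN.1 hg.2 _ (chainOK_lt chZ.ok hL)
  have c3 := Comp.ble_iff.1 chZ.prod
  rw [card_KK D.prime D.ne D.ord, show chainProd M0 378 [⟨0, [[5]], 2⟩] = 3 by decide +kernel] at c1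
  have c4 : Nat.card N ≤ 18 := by nlinarith
  have e : clo f' (gensW 5) ⊓ N = N := eq_of_le_of_card_ge inf_le_right (by omega)
  have c5 : Nat.card N = 18 := by rw [e] at c1; omega
  have hN : N ≤ clo f' (gensW 5) := inf_eq_right.1 e
  have c6 := card_eq_card_quotient_mul_card_subgroup φ.ker
  rw [Nat.card_congr (QuotientGroup.quotientKerEquivOfSurjective _ φs).toEquiv, cK,
    show φ.ker = N.subgroupOf _ from Subgroup.ext fun x => (φk x).trans
      ⟨fun h => ⟨hA1 x.2, mN.2 h⟩, fun h => mN.1 h.2⟩,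
    Nat.card_congr (subgroupOfEquivOfLe hN).toEquiv, c5] at c6
  refine ⟨(clo f' (gensW 5)).subgroupOf _, N.subgroupOf _, ⟨fun x hx g => ⟨(g * x * g⁻¹).2,
    fun y => ?_⟩⟩, subgroupOf_mono _ (k1.trans inf_le_right), subgroupOf_mono _ hN, ?_,
    (Nat.card_congr (subgroupOfEquivOfLe inf_le_left).toEquiv).trans c5,
    φ.comp (subgroupOfEquivOfLe hA1).toMonoidHom, φs.comp (subgroupOfEquivOfLe hA1).surjective,
    fun x => (φk _).trans ⟨fun h => ⟨x.1.2, mN.2 h⟩, fun h => mN.1 h.2⟩⟩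
  · have := hx.2 ⟨_, reps2.smul_full (clo_le_closure _ _ (hA.ge (g⁻¹).2)) y.2⟩
    change ((g : Co0) * x * (g : Co0)⁻¹) • (y : Finset W2) = y
    rw [mul_smul, mul_smul]
    exact (congrArg _ this).trans (smul_inv_smul _ _)
  · have := ((clo f' (gensW 5)).subgroupOf 𝐂₁(Leech.permHom (ev M.m w))).card_mul_index
    rw [Nat.card_congr (subgroupOfEquivOfLe hA1).toEquiv, c6, hS] at this
    omega

theorem classes3 {g : M24} (h : orderOf g = 3) :
    (∃ x, x * g * x⁻¹ = ev M.m w) ∨ ∃ x, x * g * x⁻¹ = ev M.m [4, 1, 3, 1, 4, 1, 3, 1] := by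
  obtain ⟨v, hv, x, -, e⟩ := classes (H := ⊤) (exact_cent (c' := cP) xM (k := 5) (by norm_num) cent
    (by decide +kernel) (by decide +kernel)) (labOK_spec (k := 5) (R := repl 24 5) (Q := full 23)
      (by decide +kernel)) (M.F0 ⊤) (fun _ => trivial) (M := 2702973) (p := 3) (a := 1) (m := 226688)
    (by norm_num) (by rw [card_top, card_M24]; decide +kernel) (by norm_num)
    (reps := [w, [4, 1, 3, 1, 4, 1, 3, 1]]) (tbl := tbl) (Ts := trP) (by decide +kernel) (g := g) trivial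
    (by rw [pow_one, ← h, pow_orderOf_eq_one]) (by rintro rfl; simp at h)
  rcases List.mem_pair.1 hv with rfl | rfl
  exacts [Or.inl ⟨x, e⟩, Or.inr ⟨x, e⟩]

end CF.Known.Mon.C3A
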