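import Cfsg.Agent.Bt.Defs

/-! Data for a centralizer in `Co0`. -/

set_option autoImplicit false
set_option maxRecDepth 1000000
set_option maxHeartbeats 0

namespace CF.Known.Mon.C3B

open CF.Comp CF.Bt

noncomputable def w : List Nat := [(nat_lit 4), (nat_lit 1), (nat_lit 3), (nat_lit 1), (nat_lit 4), (nat_lit 1), (nat_lit 3), (nat_lit 1)]
noncomputable def Ys_0 : List Nat := [(nat_lit 0x84210a421085210842108421084210),
  (nat_lit 0x842106421085210842108421084210),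
  (nat_lit 0x7bdef7bdef7adef7bdef7bdef7bdef),
  (nat_lit 0xa42108421085210842108421084210),
  (nat_lit 0x84210842108521084210a421084210),
  (nat_lit 0x842108421085210852108421084210),
  (nat_lit 0x8421084210a5210842108421084210),
  (nat_lit 0x842108521085210842108421084210),
  (nat_lit 0x852108421085210842108421084210),
  (nat_lit 0x842108421085210842108421085210),
  (nat_lit 0x842108421085210a42108421084210),
  (nat_lit 0x842908421085210842108421084210),
  (nat_lit 0x842108421085214842108421084210),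
  (nat_lit 0x8421284210942109425084a5284250),
  (nat_lit 0x8421294a1084a108425284a5084210),
  (nat_lit 0x9421284a1084a129421084a1284210),
  (nat_lit 0x842508421094a128421094a1284250),
  (nat_lit 0x94210842529421084a108421294212),
  (nat_lit 0x842109421094a508421294a1084212),
  (nat_lit 0x842108425094a10842129421294a10),
  (nat_lit 0x842109421094212942509421084252),
  (nat_lit 0x8425094a5094210942508425084210),
  (nat_lit 0x84250842129425084a109421084252),
  (nat_lit 0x9421084a109421284a1094a1084212)]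
noncomputable def Ys_1 : List Nat := [(nat_lit 0x64210842108421084210842108420c),
  (nat_lit 0x642108421084210842108421084214),
  (nat_lit 0xac6318c6318c6318c6318c6318c631),
  (nat_lit 0x642108421084210842108419084210),
  (nat_lit 0x6420c8421084210842108421084210),
  (nat_lit 0x642108421084210642108421084210),
  (nat_lit 0x642108419084210842108421084210),
  (nat_lit 0x642108420c84210842108421084210),
  (nat_lit 0x642108421084210842108321084210),
  (nat_lit 0x642108321084210842108421084210),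
  (nat_lit 0x642108421084210842108420c84210),
  (nat_lit 0x642108421084210842106421084210),
  (nat_lit 0x6421084210842108420c8421084210),
  (nat_lit 0x841d0741d0739d083a108420e84210),
  (nat_lit 0x741d07420e839d084210842107420e),
  (nat_lit 0x741d08420e841d083a0e841ce84210),
  (nat_lit 0x7420e841d0741d083a0e7421084210),
  (nat_lit 0x84210841d08420e739d0841d0839d0),
  (nat_lit 0x73a0e841d0841d0841d0842107420e),
  (nat_lit 0x7420e839d08420e83a1084210741d0),
  (nat_lit 0x8420e741d074210841ce8420e8420e),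
  (nat_lit 0x84210741ce83a10842107420e841ce),
  (nat_lit 0x83a0e841d074210741d07421083a10),
  (nat_lit 0x8420e841ce841d0741ce841d084210)]
noncomputable def Ys_2 : List Nat := [(nat_lit 0x8c5f18c62d7c6318c5f17c5f17bdf1),
  (nat_lit 0x94212841d084a0e842528421084a10),
  (nat_lit 0x7bded7c6338bdef7bded7be2f7c62f),
  (nat_lit 0x9c6318c5ef7c62f8c6317c6318bdf1),
  (nat_lit 0x942129420e8421084a528421074210),
  (nat_lit 0x8c6317c5ed7c62f8c6318c5ef7c5f1),
  (nat_lit 0x8c5f38c5ef7c6318c6317c5ef8c631),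
  (nat_lit 0x941d2841ce842108421284210841d2),
  (nat_lit 0x94a128420e849d08421284a1084210),
  (nat_lit 0x94210941ce74a1084212841d084210),
  (nat_lit 0x8c5f38c5ef7c62f8be318c5f17bdef),
  (nat_lit 0x942128420e84a1084250841d284212),
  (nat_lit 0x942128420e74210942128421284a10),
  (nat_lit 0x7421293a10842508421094a1094210),
  (nat_lit 0x7bdf18bded8c6318c5f18c6318bdf1),
  (nat_lit 0x8be338bdef7be2f8bdf18c6318bdf1),
  (nat_lit 0x8be338be2f7be317c6318c5f18c631),
  (nat_lit 0x7c6717bdf17be318c6317c5ef8bdf1),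
  (nat_lit 0x842128420e8425284a128421083a50),
  (nat_lit 0x84252941d08421284a12841d084210),
  (nat_lit 0x7c5f18be2f7b6318c6318c5f18be2f),
  (nat_lit 0x7c5f18bdef8be338be2f8c5f18bdf1),
  (nat_lit 0x7c6317be2f7be317c6718bdef8be31),
  (nat_lit 0x8be317bdef7b6318c6318c62f8be31)]
noncomputable def Ys_3 : List Nat := [(nat_lit 0x84a50842508425083a507425084210),
  (nat_lit 0x7bdf17c6317cdf17c6317c62f8c5ef),
  (nat_lit 0x8be317bdaf7bdef8c5af9bdf17bdef),
  (nat_lit 0x8c62f8c6317ce317be317c62f8c62f),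
  (nat_lit 0x8421084a4e84a10842507425084a10),
  (nat_lit 0x742108421084a50842527425094210),
  (nat_lit 0x7c6317c6318c5f18be717c62f8c62f),
  (nat_lit 0x7c5f17c6317c6317be2f6c6318c62f),
  (nat_lit 0x7c5f18c6317c6317be717be2f7c5ef),
  (nat_lit 0x7c5ef7c6717c62f8be317c62f8c5ef),
  (nat_lit 0x84a108425084a128425074210941d0),
  (nat_lit 0x8421083a5284a10842507425084a10),
  (nat_lit 0x842107425084a1073a527421084210),
  (nat_lit 0x8c5f18c6318bdf18c6317c5ef8be33),
  (nat_lit 0x8c5f18c6318be2f7be2f6c62f8be31),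
  (nat_lit 0x8c5ef8c6317c5f17be316c5f18be31),
  (nat_lit 0x8421084250841d0842527421084a52),
  (nat_lit 0x7420e94210942128421284a1084250),
  (nat_lit 0x7c62f8c62f8bdef7be6f7c62f8c631),
  (nat_lit 0x7bdef8c66f8bdf18be317c62f8c62f),
  (nat_lit 0x84a108424e9421084250841d084252),
  (nat_lit 0x8c5f18be319be318be2f7c5f18c631),
  (nat_lit 0x7420e842109421084a508421084a52),
  (nat_lit 0x7c5ef8c5ef8c5ef7be317c5f18c671)]
noncomputable def Ys : List (List Nat) := [Ys_0, Ys_1, Ys_2, Ys_3]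
noncomputable def As_0 : List Nat := [(nat_lit 2601),
  (nat_lit 2602),
  (nat_lit 7599),
  (nat_lit 7592),
  (nat_lit 5547),
  (nat_lit 5843),
  (nat_lit 1866),
  (nat_lit 8107),
  (nat_lit 6234),
  (nat_lit 5113),
  (nat_lit 7563),
  (nat_lit 2962),
  (nat_lit 1840),
  (nat_lit 15309602),
  (nat_lit 494552),
  (nat_lit 15817874),
  (nat_lit 1994824),
  (nat_lit 30169),
  (nat_lit 4816899),
  (nat_lit 13934969),
  (nat_lit 14051224),
  (nat_lit 14652560),
  (nat_lit 2109034),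
  (nat_lit 6350977)]
noncomputable def As_1 : List Nat := [(nat_lit 1),
  (nat_lit 2),
  (nat_lit 4),
  (nat_lit 8),
  (nat_lit 16),
  (nat_lit 32),
  (nat_lit 64),
  (nat_lit 128),
  (nat_lit 256),
  (nat_lit 512),
  (nat_lit 1024),
  (nat_lit 2048),
  (nat_lit 4096),
  (nat_lit 8192),
  (nat_lit 16384),
  (nat_lit 32768),
  (nat_lit 65536),
  (nat_lit 131072),
  (nat_lit 262144),
  (nat_lit 524288),
  (nat_lit 1048576),
  (nat_lit 2097152),
  (nat_lit 4194304),
  (nat_lit 8388608)]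
noncomputable def As_2 : List Nat := [(nat_lit 15022870),
  (nat_lit 11736681),
  (nat_lit 11255972),
  (nat_lit 8588284),
  (nat_lit 1080993),
  (nat_lit 5704534),
  (nat_lit 103078),
  (nat_lit 2174507),
  (nat_lit 6093273),
  (nat_lit 43682),
  (nat_lit 8583846),
  (nat_lit 1092899),
  (nat_lit 4552290),
  (nat_lit 1462384),
  (nat_lit 11484348),
  (nat_lit 14274806),
  (nat_lit 14405853),
  (nat_lit 11202061),
  (nat_lit 8525707),
  (nat_lit 7753194),
  (nat_lit 9102621),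
  (nat_lit 14494397),
  (nat_lit 4386558),
  (nat_lit 10356255)]
noncomputable def As_3 : List Nat := [(nat_lit 388987),
  (nat_lit 10810036),
  (nat_lit 8423479),
  (nat_lit 9547812),
  (nat_lit 10209129),
  (nat_lit 1164602),
  (nat_lit 1119108),
  (nat_lit 9473060),
  (nat_lit 15235909),
  (nat_lit 5695372),
  (nat_lit 5428378),
  (nat_lit 10208745),
  (nat_lit 8497057),
  (nat_lit 13911207),
  (nat_lit 3376278),
  (nat_lit 4583559),
  (nat_lit 15063538),
  (nat_lit 2052058),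
  (nat_lit 16219495),
  (nat_lit 1398998),
  (nat_lit 2481770),
  (nat_lit 6173661),
  (nat_lit 14993825),
  (nat_lit 13033767)]
noncomputable def As : List (List Nat) := [As_0, As_1, As_2, As_3]
noncomputable def Ts : List Nat := [(nat_lit 0xffffffffffffffffffffffffffffffff00000000000000000000000000000000),
  (nat_lit 0xffffffffffffffff0000000000000000ffffffffffffffff0000000000000000),
  (nat_lit 0xffffffff00000000ffffffff00000000ffffffff00000000ffffffff00000000),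
  (nat_lit 0xffff0000ffff0000ffff0000ffff0000ffff0000ffff0000ffff0000ffff0000),
  (nat_lit 0xff00ff00ff00ff00ff00ff00ff00ff00ff00ff00ff00ff00ff00ff00ff00ff00),
  (nat_lit 0xf0f0f0f0f0f0f0f0f0f0f0f0f0f0f0f0f0f0f0f0f0f0f0f0f0f0f0f0f0f0f0f0),
  (nat_lit 0xcccccccccccccccccccccccccccccccccccccccccccccccccccccccccccccccc),
  (nat_lit 0xaaaaaaaaaaaaaaaaaaaaaaaaaaaaaaaaaaaaaaaaaaaaaaaaaaaaaaaaaaaaaaaa),
  (nat_lit 0xffffffff0000000000000000ffffffff00000000ffffffffffffffff00000000),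
  (nat_lit 0xa5a55a5aa5a55a5a5a5aa5a55a5aa5a55a5aa5a55a5aa5a5a5a55a5aa5a55a5a),
  (nat_lit 0x55aa55aa55aa55aaaa55aa55aa55aa55aa55aa55aa55aa5555aa55aa55aa55aa),
  (nat_lit 0x55aa55aa55aa55aaaa55aa55aa55aa55aa55aa55aa55aa5555aa55aa55aa55aa),
  (nat_lit 0xaaaaaaaaaaaaaaaa55555555555555555555555555555555aaaaaaaaaaaaaaaa),
  (nat_lit 0x6996699669966996966996699669966996699669966996696996699669966996),
  (nat_lit 0xaa55aa5555aa55aa55aa55aaaa55aa5555aa55aaaa55aa55aa55aa5555aa55aa),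
  (nat_lit 0),
  (nat_lit 0xffff0000ffff00ff0000ffff0000ffff0000ffff0000ff00ffff0000ffff00),
  (nat_lit 0xc3c3c3c33c3c3c3cc3c3c3c33c3c3c3cc3c3c3c33c3c3c3cc3c3c3c33c3c3c3c),
  (nat_lit 0x6996699669966996966996699669966996699669966996696996699669966996),
  (nat_lit 0xaa55aa5555aa55aa55aa55aaaa55aa5555aa55aaaa55aa55aa55aa5555aa55aa),
  (nat_lit 0xc3c3c3c33c3c3c3cc3c3c3c33c3c3c3cc3c3c3c33c3c3c3cc3c3c3c33c3c3c3c),
  (nat_lit 0xaaaa55555555aaaaaaaa55555555aaaaaaaa55555555aaaaaaaa55555555aaaa),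
  (nat_lit 0x6996699669966996966996699669966996699669966996696996699669966996),
  (nat_lit 0xaaaa55555555aaaaaaaa55555555aaaaaaaa55555555aaaaaaaa55555555aaaa)]
noncomputable def F : List Nat := [(nat_lit 15498880),
  (nat_lit 5644352),
  (nat_lit 5644832),
  (nat_lit 5073936),
  (nat_lit 10551816),
  (nat_lit 12206340),
  (nat_lit 5078786),
  (nat_lit 5078785)]
noncomputable def ks : List Nat := [(nat_lit 136),
  (nat_lit 72),
  (nat_lit 37),
  (nat_lit 192),
  (nat_lit 145),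
  (nat_lit 31),
  (nat_lit 87),
  (nat_lit 78),
  (nat_lit 217),
  (nat_lit 78),
  (nat_lit 31),
  (nat_lit 145),
  (nat_lit 6),
  (nat_lit 64),
  (nat_lit 208),
  (nat_lit 71),
  (nat_lit 218),
  (nat_lit 144),
  (nat_lit 147),
  (nat_lit 10),
  (nat_lit 210),
  (nat_lit 132),
  (nat_lit 196),
  (nat_lit 192)]
noncomputable def N0_0 : Net := Net.nil
noncomputable def N0_1 : Net := Net.nil
noncomputable def N0_2 : Net := (Net.cons (nat_lit 1) (nat_lit 0x5555555500000000555555550000000055555555000000005555555500000000) (Net.cons (nat_lit 2) (nat_lit 0x3333000033330000333300003333000033330000333300003333000033330000) (Net.cons (nat_lit 8) (nat_lit 0xff00ff00ff00ff00ff00ff00ff00ff00000000000000000000000000000000) (Net.cons (nat_lit 16) (nat_lit 0xffff0000ffff0000ffff0000ffff00000000000000000000000000000000) (Net.cons (nat_lit 32) (nat_lit 0xffffffff00000000ffffffff00000000000000000000000000000000) (Net.cons (nat_lit 64) (nat_lit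 0xffffffffffffffff00000000000000000000000000000000) (Net.cons (nat_lit 128) (nat_lit 0x69696969696969699696969696969696) (Net.cons (nat_lit 64) (nat_lit 0x996666996699996600000000000000009966669966999966) (Net.cons (nat_lit 32) (nat_lit 0xaaaaaaaa00000000aaaaaaaa00000000aaaaaaaa00000000aaaaaaaa) (Net.cons (nat_lit 16) (nat_lit 0x666600009999000099990000666600006666000099990000999900006666) (Net.cons (nat_lit 8) (nat_lit 0xaa00aa005500550055005500aa00aa00aa00aa005500550055005500aa00aa) (Net.cons (nat_lit 4) (nat_lit 0x909060609090606090906060909060609090606090906060909060609090606) (Net.cons (nat_lit 2) (nat_lit 0x1111111111111111111111111111111122222222222222222222222222222222) (Net.cons (nat_lit 1) (nat_lit 0x1441144114411441144114411441144141144114411441144114411441144114) Net.nil))))))))))))))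
noncomputable def N0_3 : Net := (Net.cons (nat_lit 4) (nat_lit 0xf0f00000f0f00000f0f00000f0f00000f0f00000f0f00000f0f00000f0f0000) (Net.cons (nat_lit 8) (nat_lit 0xff00ff00ff00ff00ff00ff00ff00ff00000000000000000000000000000000) (Net.cons (nat_lit 16) (nat_lit 0xffff000000000000ffff000000000000ffff000000000000ffff00000000) (Net.cons (nat_lit 32) (nat_lit 0xffffffff000000000000000000000000ffffffff0000000000000000) (Net.cons (nat_lit 64) (nat_lit 0xffffffffffffffff00000000000000000000000000000000) (Net.cons (nat_lit 128) (nat_lit 0x96696996699696696996966996696996) (Net.cons (nat_lit 64) (nat_lit 0xf0f00f0f0f0ff0f00000000000000000f0f00f0f0f0ff0f0) (Net.cons (nat_lit 32) (nat_lit 0xc3c33c3c00000000c3c33c3c00000000c3c33c3c00000000c3c33c3c) (Net.cons (nat_lit 16) (nat_lit 0xa5a500005a5a00005a5a0000a5a500005a5a0000a5a50000a5a500005a5a) (Net.cons (nat_lit 8) (nat_lit 0x3300cc003300cc003300cc003300cc003300cc003300cc003300cc003300cc) (Net.cons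 (nat_lit 4) (nat_lit 0x906090609060906090609060906090609060906090609060906090609060906) (Net.cons (nat_lit 2) (nat_lit 0x2211221122112211221122112211221111221122112211221122112211221122) (Net.cons (nat_lit 1) (nat_lit 0x5005500550055005500550055005500505500550055005500550055005500550) Net.nil)))))))))))))
noncomputable def N0 : List Net := [N0_0, N0_1, N0_2, N0_3]
noncomputable def N1_0 : Net := (Net.cons (nat_lit 2) (nat_lit 0x3333333333333333333333333333333300000000000000000000000000000000) (Net.cons (nat_lit 4) (nat_lit 0xf0f0f0f0f0f0f0f0f0f0f0f0f0f0f0f00000000000000000000000000000000) (Net.cons (nat_lit 128) (nat_lit 0xf0f0f0f0f0f0f0ff0f0f0f0f0f0f0f0) (Net.cons (nat_lit 64) (nat_lit 0xcc33cc33cc33cc33000000000000000033cc33cc33cc33cc) (Net.cons (nat_lit 16) (nat_lit 0x5a5a0000a5a500005a5a0000a5a50000a5a500005a5a0000a5a500005a5a) (Net.cons (nat_lit 8) (nat_lit 0x99006600660099006600990099006600990066006600990066009900990066)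 (Net.cons (nat_lit 4) (nat_lit 0x906060906090906090606090609090609060609060909060906060906090906) (Net.cons (nat_lit 2) (nat_lit 0x3030030330300303303003033030030303033030030330300303303003033030) (Net.cons (nat_lit 1) (nat_lit 0x4411441111441144441144111144114444114411114411444411441111441144) Net.nil)))))))))
noncomputable def N1_1 : Net := (Net.cons (nat_lit 1) (nat_lit 0x5555555555555555555555555555555500000000000000000000000000000000) (Net.cons (nat_lit 4) (nat_lit 0xf0f0f0f0f0f0f0f0f0f0f0f0f0f0f0f00000000000000000000000000000000) (Net.cons (nat_lit 16) (nat_lit 0xffff0000ffff0000ffff0000ffff00000000000000000000000000000000) (Net.cons (nat_lit 128) (nat_lit 0xf0f00f0f0f0ff0f0f0f00f0f0f0ff0f0) (Net.cons (nat_lit 64) (nat_lit 0x55555555555555550000000000000000aaaaaaaaaaaaaaaa) (Net.cons (nat_lit 16) (nat_lit 0x669900009966000099660000669900009966000066990000669900009966) (Net.cons (nat_lit 8) (nat_lit 0xcc00cc00cc00cc00cc00cc00cc00cc00cc00cc00cc00cc00cc00cc00cc00cc)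 (Net.cons (nat_lit 4) (nat_lit 0x909090906060606090909090606060609090909060606060909090906060606) (Net.cons (nat_lit 2) (nat_lit 0x2112122121121221122121121221211221121221211212211221211212212112) (Net.cons (nat_lit 1) (nat_lit 0x55550055000055550000550055550000555500550000555500005500555500) Net.nil))))))))))
noncomputable def N1_2 : Net := (Net.cons (nat_lit 2) (nat_lit 0x3333333333333333000000000000000033333333333333330000000000000000) (Net.cons (nat_lit 16) (nat_lit 0xffff0000ffff00000000000000000000ffff0000ffff0000000000000000) (Net.cons (nat_lit 128) (nat_lit 0xff0000ffff0000ff00ffff0000ffff00) (Net.cons (nat_lit 64) (nat_lit 0xcccc33333333cccc0000000000000000cccc33333333cccc) (Net.cons (nat_lit 16) (nat_lit 0xcc33000033cc0000cc33000033cc0000cc33000033cc0000cc33000033cc) (Net.cons (nat_lit 8) (nat_lit 0x66006600990099009900990066006600660066009900990099009900660066) (Net.cons (nat_lit 4) (nat_lit 0xf0f00000f0f00000f0f00000f0f00000f0f00000f0f00000f0f00000f0f00)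 (Net.cons (nat_lit 2) (nat_lit 0x3300003333000033330000333300003300333300003333000033330000333300) (Net.cons (nat_lit 1) (nat_lit 0x4444111111114444444411111111444444441111111144444444111111114444) Net.nil)))))))))
noncomputable def N1_3 : Net := (Net.cons (nat_lit 16) (nat_lit 0xffff0000ffff00000000000000000000ffff0000ffff0000000000000000) (Net.cons (nat_lit 128) (nat_lit 0x99996666666699996666999999996666) (Net.cons (nat_lit 64) (nat_lit 0xff0000ffff0000ff000000000000000000ffff0000ffff00) (Net.cons (nat_lit 16) (nat_lit 0xc33c00003cc30000c33c00003cc300003cc30000c33c00003cc30000c33c) (Net.cons (nat_lit 8) (nat_lit 0x96006900690096009600690069009600960069006900960096006900690096) (Net.cons (nat_lit 4) (nat_lit 0xa0a0a0a0a0a0a0a0a0a0a0a0a0a0a0a0a0a0a0a0a0a0a0a0a0a0a0a0a0a0a0a) (Net.cons (nat_lit 2) (nat_lit 0x2222222222222222222222222222222222222222222222222222222222222222) (Net.cons (nat_lit 1) (nat_lit 0x5050505050505050505050505050505050505050505050505050505050505050)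 Net.nil))))))))
noncomputable def N1 : List Net := [N1_0, N1_1, N1_2, N1_3]
noncomputable def NW : List (List Nat) := [[(nat_lit 6), (nat_lit 7), (nat_lit 5), (nat_lit 5), (nat_lit 7), (nat_lit 6), (nat_lit 7), (nat_lit 6), (nat_lit 7), (nat_lit 7)],
  [(nat_lit 6), (nat_lit 7), (nat_lit 6), (nat_lit 8), (nat_lit 6)],
  [(nat_lit 9), (nat_lit 11), (nat_lit 11), (nat_lit 11)],
  [(nat_lit 10), (nat_lit 10), (nat_lit 11), (nat_lit 9), (nat_lit 9), (nat_lit 11)]]
noncomputable def rs : List (Nat × Nat × Nat × Nat) := [((nat_lit 0), (nat_lit 0), (nat_lit 0x842108421084210842108421084210), (nat_lit 1024)), ((nat_lit 2), (nat_lit 7), (nat_lit 0x942528425094a12842129425094250), (nat_lit 1072))]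
noncomputable def T : Tr := (.sym [[1], [3], [5]] (.cons [] 4 21 (.op 4 0 (.focus 0 (.cons [] 0 21 (.op 4 0 (.focus 0 (.cons [] 0 21 (.op 2 0 (.xor 0 1 (.focus 0 (.xor 1 4 (.focus 0 (.xor 2 7 (.focus 0 (.sym [[1], [3]] (.cons [] 2 3 (.op 4 0 (.focus 0 (.cons [] 0 3 (.op 4 0 (.focus 0 (.cons [] 0 3 .triv .nil))) .nil))) (.cons [1] 3 0 (.op 4 0 (.focus 0 (.cons [4, 2] 0 0 (.op 4 0 (.focus 0 (.cons [2, 5] 0 0 (.focus 7 (.focus 6 (.focus 5 (.xor 8 0 (.focus 0 (.xor 9 3 (.focus 0 (.xor 10 6 (.focus 0 (.base (nat_lit 16396) (.focus 0 (.sym [[3]] (.cons [] 2 0 (.base (nat_lit 256) (.op 4 1 (.and 1 0 (.dead0 0)))) .nil))))))))))))) .nil))) .nil))) (.cons [4] 2 0 (.op 4 0 (.focus 0 (.cons [8, 2] 0 0 (.op 4 0 (.focus 0 (.cons [5, 1] 0 0 (.focus 7 (.focus 6 (.focus 5 (.xor 8 0 (.focus 0 (.xor 9 3 (.focus 0 (.xor 10 6 (.focus 0 (.base (nat_lit 16396) (.focus 0 (.sym [[7]] (.cons [] 2 0 (.base (nat_lit 32) (.op 4 1 (.and 1 0 (.dead0 0))))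 .nil))))))))))))) .nil))) .nil))) .nil))))))))))) .nil))) .nil))) .nil))
noncomputable def TK : List (List Nat) := [[2, 3, 1, 1, 1, 4, 1, 3, 3, 2, 3, 2, 2, 4], [4, 1, 3, 3, 2, 2, 4, 2, 4, 4, 1, 1, 3, 2, 3, 1, 3, 2], [4, 2, 2, 4, 2, 2, 4, 4, 2, 2, 3, 2, 4, 4, 1, 3], [3, 1, 1, 3, 3, 2, 4, 4, 2, 4, 2, 2, 3, 2, 3]]
noncomputable def TF : List (List Nat) := [[], [1]]
noncomputable def cM : List Lvl := [⟨(nat_lit 0), [[(nat_lit 1)],
  [(nat_lit 3)]], (nat_lit 5)⟩,
  ⟨(nat_lit 19), [[(nat_lit 2), (nat_lit 3), (nat_lit 1)],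
  [(nat_lit 1), (nat_lit 3), (nat_lit 1), (nat_lit 3)]], (nat_lit 5)⟩,
  ⟨(nat_lit 9), [[(nat_lit 2), (nat_lit 2), (nat_lit 3), (nat_lit 1), (nat_lit 3), (nat_lit 1), (nat_lit 1)],
  [(nat_lit 4), (nat_lit 1), (nat_lit 4), (nat_lit 2), (nat_lit 2), (nat_lit 2), (nat_lit 2)]], (nat_lit 6)⟩,
  ⟨(nat_lit 7), [[(nat_lit 3), (nat_lit 1), (nat_lit 1), (nat_lit 3), (nat_lit 2), (nat_lit 3), (nat_lit 3)],
  [(nat_lit 1), (nat_lit 1), (nat_lit 1), (nat_lit 3), (nat_lit 1), (nat_lit 4), (nat_lit 2), (nat_lit 2), (nat_lit 2), (nat_lit 3)]], (nat_lit 5)⟩,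
  ⟨(nat_lit 21), [[(nat_lit 2), (nat_lit 3), (nat_lit 2), (nat_lit 2), (nat_lit 3), (nat_lit 3), (nat_lit 1), (nat_lit 1), (nat_lit 1), (nat_lit 4), (nat_lit 1)],
  [(nat_lit 1), (nat_lit 3), (nat_lit 2), (nat_lit 2), (nat_lit 4), (nat_lit 2), (nat_lit 2), (nat_lit 4), (nat_lit 1), (nat_lit 4), (nat_lit 2), (nat_lit 4)]], (nat_lit 5)⟩,
  ⟨(nat_lit 20), [[(nat_lit 1), (nat_lit 3), (nat_lit 2), (nat_lit 2), (nat_lit 4), (nat_lit 2), (nat_lit 2), (nat_lit 4), (nat_lit 1), (nat_lit 4), (nat_lit 2), (nat_lit 4)],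
  [(nat_lit 2), (nat_lit 3), (nat_lit 1), (nat_lit 1), (nat_lit 1), (nat_lit 4), (nat_lit 1), (nat_lit 3), (nat_lit 3), (nat_lit 2), (nat_lit 3), (nat_lit 2), (nat_lit 2), (nat_lit 4)],
  [(nat_lit 3), (nat_lit 2), (nat_lit 3), (nat_lit 2), (nat_lit 3), (nat_lit 2), (nat_lit 4), (nat_lit 2), (nat_lit 4), (nat_lit 4), (nat_lit 4), (nat_lit 4), (nat_lit 4), (nat_lit 2), (nat_lit 3)]], (nat_lit 2)⟩,
  ⟨(nat_lit 3), [[(nat_lit 2), (nat_lit 3), (nat_lit 1), (nat_lit 1), (nat_lit 1), (nat_lit 4), (nat_lit 1), (nat_lit 3), (nat_lit 3), (nat_lit 2), (nat_lit 3), (nat_lit 2), (nat_lit 2), (nat_lit 4)]], (nat_lit 2)⟩]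
noncomputable def L : Lvl := ⟨(nat_lit 192), [[(nat_lit 5)],
  [(nat_lit 7)]], (nat_lit 6)⟩
noncomputable def t : List Lvl := [⟨(nat_lit 34), [[(nat_lit 9)],
  [(nat_lit 11)]], (nat_lit 6)⟩,
  ⟨(nat_lit 1), [[(nat_lit 13)],
  [(nat_lit 15)]], (nat_lit 3)⟩]
noncomputable def Us : List Nat := [(nat_lit 0),
  (nat_lit 256),
  (nat_lit 0),
  (nat_lit 0),
  (nat_lit 0),
  (nat_lit 0),
  (nat_lit 128),
  (nat_lit 64),
  (nat_lit 0),
  (nat_lit 32),
  (nat_lit 0),
  (nat_lit 16),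
  (nat_lit 8),
  (nat_lit 0),
  (nat_lit 4),
  (nat_lit 0),
  (nat_lit 0),
  (nat_lit 0),
  (nat_lit 256),
  (nat_lit 256),
  (nat_lit 0),
  (nat_lit 0),
  (nat_lit 16),
  (nat_lit 2),
  (nat_lit 0),
  (nat_lit 128),
  (nat_lit 0),
  (nat_lit 1),
  (nat_lit 0),
  (nat_lit 16),
  (nat_lit 0),
  (nat_lit 128),
  (nat_lit 0),
  (nat_lit 0),
  (nat_lit 8),
  (nat_lit 32),
  (nat_lit 0),
  (nat_lit 0),
  (nat_lit 1),
  (nat_lit 16),
  (nat_lit 2),
  (nat_lit 0),
  (nat_lit 32),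
  (nat_lit 0),
  (nat_lit 16),
  (nat_lit 0),
  (nat_lit 8),
  (nat_lit 0),
  (nat_lit 64),
  (nat_lit 16),
  (nat_lit 0),
  (nat_lit 0),
  (nat_lit 0),
  (nat_lit 0),
  (nat_lit 4),
  (nat_lit 64),
  (nat_lit 4),
  (nat_lit 0),
  (nat_lit 16),
  (nat_lit 0),
  (nat_lit 0),
  (nat_lit 1),
  (nat_lit 0),
  (nat_lit 2),
  (nat_lit 0),
  (nat_lit 64),
  (nat_lit 32),
  (nat_lit 0),
  (nat_lit 0),
  (nat_lit 8),
  (nat_lit 64),
  (nat_lit 0),
  (nat_lit 128),
  (nat_lit 8),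
  (nat_lit 2),
  (nat_lit 32),
  (nat_lit 256),
  (nat_lit 256),
  (nat_lit 128),
  (nat_lit 1),
  (nat_lit 0),
  (nat_lit 128),
  (nat_lit 4),
  (nat_lit 0),
  (nat_lit 1),
  (nat_lit 0),
  (nat_lit 0),
  (nat_lit 128),
  (nat_lit 0),
  (nat_lit 0),
  (nat_lit 0),
  (nat_lit 0),
  (nat_lit 4),
  (nat_lit 2),
  (nat_lit 256),
  (nat_lit 256),
  (nat_lit 0),
  (nat_lit 32),
  (nat_lit 2),
  (nat_lit 0),
  (nat_lit 4),
  (nat_lit 0),
  (nat_lit 0),
  (nat_lit 8),
  (nat_lit 32),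
  (nat_lit 1),
  (nat_lit 4),
  (nat_lit 8),
  (nat_lit 0),
  (nat_lit 0),
  (nat_lit 0),
  (nat_lit 0),
  (nat_lit 0),
  (nat_lit 64),
  (nat_lit 1),
  (nat_lit 0),
  (nat_lit 0),
  (nat_lit 2),
  (nat_lit 64),
  (nat_lit 0),
  (nat_lit 0),
  (nat_lit 0),
  (nat_lit 0),
  (nat_lit 0),
  (nat_lit 0),
  (nat_lit 0),
  (nat_lit 0),
  (nat_lit 0),
  (nat_lit 0),
  (nat_lit 4),
  (nat_lit 16),
  (nat_lit 0),
  (nat_lit 0),
  (nat_lit 32),
  (nat_lit 1),
  (nat_lit 0),
  (nat_lit 128),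
  (nat_lit 16),
  (nat_lit 64),
  (nat_lit 2),
  (nat_lit 32),
  (nat_lit 64),
  (nat_lit 128),
  (nat_lit 4),
  (nat_lit 0),
  (nat_lit 128),
  (nat_lit 8),
  (nat_lit 0),
  (nat_lit 16),
  (nat_lit 0),
  (nat_lit 0),
  (nat_lit 128),
  (nat_lit 0),
  (nat_lit 0),
  (nat_lit 0),
  (nat_lit 0),
  (nat_lit 2),
  (nat_lit 1),
  (nat_lit 8),
  (nat_lit 16),
  (nat_lit 1),
  (nat_lit 0),
  (nat_lit 0),
  (nat_lit 2),
  (nat_lit 0),
  (nat_lit 16),
  (nat_lit 32),
  (nat_lit 0),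
  (nat_lit 0),
  (nat_lit 0),
  (nat_lit 0),
  (nat_lit 0),
  (nat_lit 256),
  (nat_lit 256),
  (nat_lit 16),
  (nat_lit 32),
  (nat_lit 8),
  (nat_lit 0),
  (nat_lit 0),
  (nat_lit 16),
  (nat_lit 2),
  (nat_lit 0),
  (nat_lit 0),
  (nat_lit 4),
  (nat_lit 16),
  (nat_lit 4),
  (nat_lit 64),
  (nat_lit 1),
  (nat_lit 8),
  (nat_lit 64),
  (nat_lit 256),
  (nat_lit 256),
  (nat_lit 128),
  (nat_lit 2),
  (nat_lit 0),
  (nat_lit 0),
  (nat_lit 0),
  (nat_lit 0),
  (nat_lit 128),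
  (nat_lit 32),
  (nat_lit 0),
  (nat_lit 1),
  (nat_lit 0),
  (nat_lit 64),
  (nat_lit 64),
  (nat_lit 0),
  (nat_lit 32),
  (nat_lit 0),
  (nat_lit 0),
  (nat_lit 0),
  (nat_lit 1),
  (nat_lit 4),
  (nat_lit 0),
  (nat_lit 0),
  (nat_lit 2),
  (nat_lit 8),
  (nat_lit 0),
  (nat_lit 128),
  (nat_lit 0),
  (nat_lit 8),
  (nat_lit 0),
  (nat_lit 4),
  (nat_lit 0),
  (nat_lit 128),
  (nat_lit 256),
  (nat_lit 256),
  (nat_lit 0),
  (nat_lit 0),
  (nat_lit 32),
  (nat_lit 4),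
  (nat_lit 0),
  (nat_lit 0),
  (nat_lit 0),
  (nat_lit 2),
  (nat_lit 0),
  (nat_lit 4),
  (nat_lit 0),
  (nat_lit 32),
  (nat_lit 0),
  (nat_lit 1),
  (nat_lit 0),
  (nat_lit 0),
  (nat_lit 256),
  (nat_lit 256),
  (nat_lit 1),
  (nat_lit 8),
  (nat_lit 0),
  (nat_lit 0),
  (nat_lit 0),
  (nat_lit 8),
  (nat_lit 0),
  (nat_lit 64),
  (nat_lit 64),
  (nat_lit 0),
  (nat_lit 2)]
noncomputable def Z0_0 : Net := Net.nil
noncomputable def Z0_1 : Net := Net.nil
noncomputable def Z0_2 : Net := (Net.cons (nat_lit 1) (nat_lit 21) (Net.cons (nat_lit 4) (nat_lit 1) (Net.cons (nat_lit 8) (nat_lit 1) (Net.cons (nat_lit 4) (nat_lit 8) (Net.cons (nat_lit 2) (nat_lit 19) (Net.cons (nat_lit 1) (nat_lit 4) Net.nil))))))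
noncomputable def Z0_3 : Net := (Net.cons (nat_lit 1) (nat_lit 69) (Net.cons (nat_lit 2) (nat_lit 17) (Net.cons (nat_lit 4) (nat_lit 1) (Net.cons (nat_lit 8) (nat_lit 1) (Net.cons (nat_lit 4) (nat_lit 13) (Net.cons (nat_lit 2) (nat_lit 2) (Net.cons (nat_lit 1) (nat_lit 21) Net.nil)))))))
noncomputable def Z0 : List Net := [Z0_0, Z0_1, Z0_2, Z0_3]
noncomputable def Z1_0 : Net := (Net.cons (nat_lit 4) (nat_lit 2) (Net.cons (nat_lit 2) (nat_lit 50) Net.nil))
noncomputable def Z1_1 : Net := (Net.cons (nat_lit 1) (nat_lit 1) (Net.cons (nat_lit 2) (nat_lit 16) (Net.cons (nat_lit 8) (nat_lit 1) (Net.cons (nat_lit 4) (nat_lit 4) (Net.cons (nat_lit 2) (nat_lit 49) (Net.cons (nat_lit 1) (nat_lit 21) Net.nil))))))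
noncomputable def Z1_2 : Net := (Net.cons (nat_lit 1) (nat_lit 80) (Net.cons (nat_lit 2) (nat_lit 17) (Net.cons (nat_lit 8) (nat_lit 1) (Net.cons (nat_lit 4) (nat_lit 3) (Net.cons (nat_lit 2) (nat_lit 17) (Net.cons (nat_lit 1) (nat_lit 16) Net.nil))))))
noncomputable def Z1_3 : Net := (Net.cons (nat_lit 1) (nat_lit 80) (Net.cons (nat_lit 2) (nat_lit 1) (Net.cons (nat_lit 8) (nat_lit 1) (Net.cons (nat_lit 4) (nat_lit 1) (Net.cons (nat_lit 2) (nat_lit 33) (Net.cons (nat_lit 1) (nat_lit 64) Net.nil))))))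
noncomputable def Z1_4 : Net := (Net.cons (nat_lit 2) (nat_lit 16) (Net.cons (nat_lit 4) (nat_lit 4) (Net.cons (nat_lit 2) (nat_lit 48) (Net.cons (nat_lit 1) (nat_lit 80) Net.nil))))
noncomputable def Z1_5 : Net := (Net.cons (nat_lit 1) (nat_lit 16) (Net.cons (nat_lit 4) (nat_lit 1) (Net.cons (nat_lit 8) (nat_lit 1) (Net.cons (nat_lit 4) (nat_lit 1) (Net.cons (nat_lit 2) (nat_lit 48) (Net.cons (nat_lit 1) (nat_lit 80) Net.nil))))))
noncomputable def Z1_6 : Net := (Net.cons (nat_lit 4) (nat_lit 1) (Net.cons (nat_lit 8) (nat_lit 1) (Net.cons (nat_lit 4) (nat_lit 1) (Net.cons (nat_lit 1) (nat_lit 64) Net.nil))))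
noncomputable def Z1_7 : Net := (Net.cons (nat_lit 1) (nat_lit 80) (Net.cons (nat_lit 4) (nat_lit 1) (Net.cons (nat_lit 8) (nat_lit 1) (Net.cons (nat_lit 4) (nat_lit 1) (Net.cons (nat_lit 2) (nat_lit 16) (Net.cons (nat_lit 1) (nat_lit 80) Net.nil))))))
noncomputable def Z1_8 : Net := (Net.cons (nat_lit 2) (nat_lit 16) (Net.cons (nat_lit 4) (nat_lit 1) (Net.cons (nat_lit 8) (nat_lit 1) (Net.cons (nat_lit 4) (nat_lit 1) (Net.cons (nat_lit 2) (nat_lit 16) (Net.cons (nat_lit 1) (nat_lit 64) Net.nil))))))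
noncomputable def Z1_9 : Net := (Net.cons (nat_lit 2) (nat_lit 16) (Net.cons (nat_lit 4) (nat_lit 1) (Net.cons (nat_lit 8) (nat_lit 1) (Net.cons (nat_lit 4) (nat_lit 1) (Net.cons (nat_lit 2) (nat_lit 16) (Net.cons (nat_lit 1) (nat_lit 64) Net.nil))))))
noncomputable def Z1 : List Net := [Z1_0, Z1_1, Z1_2, Z1_3, Z1_4, Z1_5, Z1_6, Z1_7, Z1_8, Z1_9]
noncomputable def ZW : List (List Nat) := [[(nat_lit 6), (nat_lit 6), (nat_lit 6), (nat_lit 8), (nat_lit 8)],
  [(nat_lit 5), (nat_lit 5), (nat_lit 8), (nat_lit 5), (nat_lit 8), (nat_lit 8), (nat_lit 8), (nat_lit 8)],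
  [(nat_lit 10), (nat_lit 12), (nat_lit 9), (nat_lit 11), (nat_lit 9)],
  [(nat_lit 12), (nat_lit 12), (nat_lit 10)],
  [(nat_lit 14), (nat_lit 16), (nat_lit 13), (nat_lit 16), (nat_lit 14)],
  [(nat_lit 16), (nat_lit 18), (nat_lit 15)],
  [(nat_lit 18), (nat_lit 16)],
  [(nat_lit 22), (nat_lit 19), (nat_lit 21), (nat_lit 21), (nat_lit 20), (nat_lit 20), (nat_lit 20)],
  [(nat_lit 22), (nat_lit 19), (nat_lit 19), (nat_lit 21), (nat_lit 19), (nat_lit 21)],
  [(nat_lit 23), (nat_lit 26), (nat_lit 23), (nat_lit 26), (nat_lit 26), (nat_lit 24), (nat_lit 25), (nat_lit 25)]]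
noncomputable def ZC : List Lvl := [⟨(nat_lit 0), [[(nat_lit 5)],
  [(nat_lit 7)]], (nat_lit 3)⟩,
  ⟨(nat_lit 3), [[(nat_lit 9)],
  [(nat_lit 11)]], (nat_lit 3)⟩,
  ⟨(nat_lit 1), [[(nat_lit 13)],
  [(nat_lit 15)]], (nat_lit 4)⟩,
  ⟨(nat_lit 2), [[(nat_lit 15)],
  [(nat_lit 17)]], (nat_lit 3)⟩,
  ⟨(nat_lit 4), [[(nat_lit 19)],
  [(nat_lit 21)]], (nat_lit 2)⟩,
  ⟨(nat_lit 5), [[(nat_lit 23)],
  [(nat_lit 25)]], (nat_lit 3)⟩,
  ⟨(nat_lit 6), [[(nat_lit 27)]], (nat_lit 2)⟩]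

end CF.Known.Mon.C3B
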