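import Cfsg.Agent.Known.Mon.Hom
import Cfsg.Agent.Known.Mon.C3BD

/-! A centralizer in `Co0`. -/

set_option autoImplicit false
set_option maxRecDepth 1000000
set_option maxHeartbeats 0

namespace CF.Known.Mon.C3B

open Cfsg Subgroup CF.Leech CF.Loc CF.LX CF.Comp CF.Comp.Mat CF.Bt MulAction Spor

theorem chN : ChainGe N0 N1 (2 ^ 8) 8 4 NW (L :: t) 181440 :=
  ⟨rfl, by decide, by decide, slp_of_slpOK (by decide +kernel), by decide +kernel, by decide +kernel,
    by decide +kernel⟩

theorem cert : Cert w 3 8 4 181440 8064 135 0 Ys As Ts N0 N1 NW L t :=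
  ⟨rfl, by decide, by decide +kernel, by decide +kernel, by decide +kernel, by decide +kernel,
    by decide +kernel, by decide +kernel, by decide +kernel, ⟨F, ks, by decide +kernel⟩,
    by decide +kernel, chN, by decide +kernel, by decide +kernel,
    ⟨rs, by decide +kernel, by decide +kernel⟩, by decide +kernel, by decide⟩

theorem xM : Exact D0 a2 M.m cM ⊤ := Exact.rebase M.xM card_M24 (by decide +kernel)

theorem cent : Nat.card 𝐂₁(ev M.m w) ≤ 504 :=
  card_cent_top_le xM (by norm_num) (k := 5) (by norm_num) (fw := TF) (kg := TK) (T := T)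
    (by decide +kernel)

theorem stab : Nat.card (stabIn 𝐂₁(Leech.permHom (ev M.m w)) w8) ≤ 8064 :=
  card_stab_le w cent (c₂ := 16) (by decide +kernel)

theorem main : CD (Leech.permHom (ev M.m w)) 3 4 8064 ∧
    clo (coEl Ys) (gensW 4) = 𝐂₁(Leech.permHom (ev M.m w)) ∧
    Nat.card 𝐂₁(Leech.permHom (ev M.m w)) = 181440 * (2 * 3) :=
  cert.main rfl (by norm_num) (by norm_num) (by decide) stab fun _ h => by rw [set_zero] at h; exact h.elim

theorem chZ : ChainGe Z0 Z1 9 4 4 ZW ZC 181440 :=
  ⟨rfl, by decide, by decide, slp_of_slpOK (by decide +kernel), by decide +kernel, by decide +kernel,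
    by decide +kernel⟩

theorem hom : ∃ ψ : 𝐂₁(Leech.permHom (ev M.m w)) →* alternatingGroup (Fin 9),
    Function.Surjective ψ ∧ ∀ x, ψ x = 1 ↔ (x : Co0) ∈ KK (Leech.permHom (ev M.m w)) :=
  cert.exists_perm (by norm_num) (by norm_num) main.2.1 main.2.2 (Ts' := Us) (by decide +kernel)
    (by decide +kernel) (by decide +kernel) chZ (dfin_full 9) fun h =>
      eq_alt_of_card (by rw [h]; rfl)

end CF.Known.Mon.C3B
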