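import Cfsg.Agent.Bt.Defs

/-! Data for a centralizer in `Co0`. -/

set_option autoImplicit false
set_option maxRecDepth 1000000
set_option maxHeartbeats 0

namespace CF.Known.Mon.C5

open CF.Comp CF.Bt

noncomputable def w : List Nat := [(nat_lit 3), (nat_lit 3), (nat_lit 1)]
noncomputable def Ys_0 : List Nat := [(nat_lit 0x842148421084210842108421084290),
  (nat_lit 0x842148421084210842108421084190),
  (nat_lit 0x7bdeb7bdef7bdef7bdef7bdef7bdef),
  (nat_lit 0x842148421084210842108421484210),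
  (nat_lit 0x842148421084210842108429084210),
  (nat_lit 0x842148421084210842108421084214),
  (nat_lit 0x842148429084210842108421084210),
  (nat_lit 0x84214a421084210842108421084210),
  (nat_lit 0x842148421084210842108521084210),
  (nat_lit 0x8421484210a4210842108421084210),
  (nat_lit 0x842148421084210842148421084210),
  (nat_lit 0x842148521084210842108421084210),
  (nat_lit 0xa42148421084210842108421084210),
  (nat_lit 0x842508425284a52842129421084210),
  (nat_lit 0x842529421284212842109421094250),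
  (nat_lit 0x942529421084a10842129421284210),
  (nat_lit 0x9425284a5084a50842108425084210),
  (nat_lit 0x84a108425084a1084a508421284a12),
  (nat_lit 0x84a528425084210942108425094250),
  (nat_lit 0x842128425094a1084a508425094210),
  (nat_lit 0x94a108425084252842128425084250),
  (nat_lit 0x8421094a5284212842528421084250),
  (nat_lit 0x84a1084a5084250942108425084a12),
  (nat_lit 0x94a509425084210842108425284212)]
noncomputable def Ys_1 : List Nat := [(nat_lit 0x64210842108421084210842108420c),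
  (nat_lit 0x642108421084210842108421084214),
  (nat_lit 0xac6318c6318c6318c6318c6318c631),
  (nat_lit 0x642108421084210842108419084210),
  (nat_lit 0x6420c8421084210842108421084210),
  (nat_lit 0x642108421084210642108421084210),
  (nat_lit 0x642108419084210842108421084210),
  (nat_lit 0x642108420c84210842108421084210),
  (nat_lit 0x642108421084210842108321084210),
  (nat_lit 0x642108321084210842108421084210),
  (nat_lit 0x642108421084210842108420c84210),
  (nat_lit 0x642108421084210842106421084210),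
  (nat_lit 0x6421084210842108420c8421084210),
  (nat_lit 0x841d0741d0739d083a108420e84210),
  (nat_lit 0x741d07420e839d084210842107420e),
  (nat_lit 0x741d08420e841d083a0e841ce84210),
  (nat_lit 0x7420e841d0741d083a0e7421084210),
  (nat_lit 0x84210841d08420e739d0841d0839d0),
  (nat_lit 0x73a0e841d0841d0841d0842107420e),
  (nat_lit 0x7420e839d08420e83a1084210741d0),
  (nat_lit 0x8420e741d074210841ce8420e8420e),
  (nat_lit 0x84210741ce83a10842107420e841ce),
  (nat_lit 0x83a0e841d074210741d07421083a10),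
  (nat_lit 0x8420e841ce841d0741ce841d084210)]
noncomputable def Ys_2 : List Nat := [(nat_lit 0x9424e841ce842108421284210841d2),
  (nat_lit 0x83a50842128421074250841d283a10),
  (nat_lit 0x7c5b18be717c5f18c5ef7ce2f7c62f),
  (nat_lit 0x93a50849d0842108425084210839d0),
  (nat_lit 0x94250841d08421074212941d083a10),
  (nat_lit 0x84250841d083a1084252841d2841d0),
  (nat_lit 0x93a5084210842107421283a12841d0),
  (nat_lit 0x8c66f7c5f17c62f7c6317bdf18bdf1),
  (nat_lit 0x8be6f7c62f8be2f7be318c5f18bdf1),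
  (nat_lit 0x7be6f7c5ef7c5f17be318bdf17bdf1),
  (nat_lit 0x84250841d0942107421084212839d2),
  (nat_lit 0x8be6f8bdef7be2f7c62f8bdf17bdf1),
  (nat_lit 0x83a4e841d084250842128421283a10),
  (nat_lit 0x8421084210a4210842108321084210),
  (nat_lit 0x8c62f7bdef8c62f8be317b5ef8bdf1),
  (nat_lit 0x84250849d0942508421073a1083a10),
  (nat_lit 0x8be2f8c5ef8be2f7c5f18b5f17be2f),
  (nat_lit 0x83a12849d083a108421083a1094a10),
  (nat_lit 0x94210841ce8420e73a1283a1084210),
  (nat_lit 0x8be317c5ef7bdf17bdf18b5f18be31),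
  (nat_lit 0x84210841d09420e841d293a5084210),
  (nat_lit 0x8c6317bdef8c62f8c5ef8b6318c5f1),
  (nat_lit 0x84210841d083a0e7421093a1084a0e),
  (nat_lit 0x84212849d08424e8421283a108420e)]
noncomputable def Ys_3 : List Nat := [(nat_lit 0x7c6317bdef7c62f8c5f17c5f38c62f),
  (nat_lit 0x8b5ef7c5ef8c5ef8c5ef8c6317be2f),
  (nat_lit 0x7c5ef8be717bdf17be2f7bded6bdf1),
  (nat_lit 0x94210841d08420e841d084a128424e),
  (nat_lit 0x83a10741d084a0e8421284a1284210),
  (nat_lit 0x8bdef7bdef8c62f8c62f7c6338c62f),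
  (nat_lit 0x8be317c62f8c62f8c5f18c6337c62f),
  (nat_lit 0x8bdf17bdef8c62f8cdf18c5f18be2f),
  (nat_lit 0x7be2f7c5ef8c62f8c5ef8cdf18c62f),
  (nat_lit 0x83a50841ce8420e84a108421284250),
  (nat_lit 0x83a12841ce842109421084a128420e),
  (nat_lit 0x83a10741d084250941d08421284250),
  (nat_lit 0x84210741ce84210849d084a5284210),
  (nat_lit 0x8c6318cdef8c6318be318be318bdef),
  (nat_lit 0x8c6317c5ef8c62f8c5f17bdf19bdef),
  (nat_lit 0x8c5f18c5af8be2f8c5f18c6318bdef),
  (nat_lit 0x84210749d084250842129425284210),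
  (nat_lit 0x942109421284210842109425294a10),
  (nat_lit 0x8421274a108420e842128421294a10),
  (nat_lit 0x83a50842108420e842129425294210),
  (nat_lit 0x8c6337c5ef7c6317be318c6318c5f1),
  (nat_lit 0x942528421084252942128421094210),
  (nat_lit 0x8bdf17c5f18c6317be318be318ce31),
  (nat_lit 0x9c5f17c5f18be2f7c6318c6318c5f1)]
noncomputable def Ys_4 : List Nat := [(nat_lit 0x7be317be317be2f7c5ef7c5ef8be6f),
  (nat_lit 0x7c6317be317be2f8c62f7bdef7c5b1),
  (nat_lit 0x9421094a1094a128421293a5274210),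
  (nat_lit 0x742107425273a108420e841d084210),
  (nat_lit 0x7425083a507420e8420e8420e84210),
  (nat_lit 0x7be317be317be2f7c5ef7c5ef8bdf3),
  (nat_lit 0x8421273a5073a0e842107421084210),
  (nat_lit 0x7421083a1273a50842107420e84210),
  (nat_lit 0x7c6317be317be2f8c62f7bdef9c631),
  (nat_lit 0x8425073a1283a0e84210841ce84210),
  (nat_lit 0x742108425083a0e84a10741ce84210),
  (nat_lit 0x74250742107424e84210741d084210),
  (nat_lit 0x8421073a50842508420e741ce84210),
  (nat_lit 0x841d0841ce839ce8420e7421084210),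
  (nat_lit 0x74210839d083a108420e74a1084250),
  (nat_lit 0x741ce7421083a108420e7420e84210),
  (nat_lit 0x842107420e7420e83a0e7420e84210),
  (nat_lit 0x841d074210741d07421084a10941d0),
  (nat_lit 0x7c6317be2f7bdef8bdef7ce2f8be2f),
  (nat_lit 0x8421073a10741ce8425084a0e84210),
  (nat_lit 0x8c5ef8be2d7bdef7bdef7c5ef8be2f),
  (nat_lit 0x7bdef8bdef7bdef7be316c5f18be2f),
  (nat_lit 0x842108420e7420e839d084a10941d0),
  (nat_lit 0x7c5ef7be2f7bdf17b5ef7c62f8bdf1)]
noncomputable def Ys : List (List Nat) := [Ys_0, Ys_1, Ys_2, Ys_3, Ys_4]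
noncomputable def As_0 : List Nat := [(nat_lit 1784),
  (nat_lit 1787),
  (nat_lit 23),
  (nat_lit 1043),
  (nat_lit 27),
  (nat_lit 18),
  (nat_lit 83),
  (nat_lit 6033),
  (nat_lit 275),
  (nat_lit 6898),
  (nat_lit 4115),
  (nat_lit 531),
  (nat_lit 16),
  (nat_lit 7859050),
  (nat_lit 5670858),
  (nat_lit 79891),
  (nat_lit 6234274),
  (nat_lit 13746010),
  (nat_lit 10829331),
  (nat_lit 1105139),
  (nat_lit 4394633),
  (nat_lit 1602889),
  (nat_lit 924466),
  (nat_lit 1373489)]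
noncomputable def As_1 : List Nat := [(nat_lit 1),
  (nat_lit 2),
  (nat_lit 4),
  (nat_lit 8),
  (nat_lit 16),
  (nat_lit 32),
  (nat_lit 64),
  (nat_lit 128),
  (nat_lit 256),
  (nat_lit 512),
  (nat_lit 1024),
  (nat_lit 2048),
  (nat_lit 4096),
  (nat_lit 8192),
  (nat_lit 16384),
  (nat_lit 32768),
  (nat_lit 65536),
  (nat_lit 131072),
  (nat_lit 262144),
  (nat_lit 524288),
  (nat_lit 1048576),
  (nat_lit 2097152),
  (nat_lit 4194304),
  (nat_lit 8388608)]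
noncomputable def As_2 : List Nat := [(nat_lit 2177026),
  (nat_lit 4295563),
  (nat_lit 414367),
  (nat_lit 11481392),
  (nat_lit 4517626),
  (nat_lit 3246088),
  (nat_lit 15563809),
  (nat_lit 6007092),
  (nat_lit 414684),
  (nat_lit 3699421),
  (nat_lit 6572659),
  (nat_lit 1121420),
  (nat_lit 12685929),
  (nat_lit 7137),
  (nat_lit 14422692),
  (nat_lit 12832618),
  (nat_lit 3607837),
  (nat_lit 14089858),
  (nat_lit 11462768),
  (nat_lit 4305726),
  (nat_lit 3139800),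
  (nat_lit 1602637),
  (nat_lit 8010368),
  (nat_lit 6417089)]
noncomputable def As_3 : List Nat := [(nat_lit 3726791),
  (nat_lit 11752684),
  (nat_lit 7526509),
  (nat_lit 1003857),
  (nat_lit 2765193),
  (nat_lit 3946733),
  (nat_lit 7523702),
  (nat_lit 16270429),
  (nat_lit 3836965),
  (nat_lit 4425954),
  (nat_lit 13387203),
  (nat_lit 11912938),
  (nat_lit 5780810),
  (nat_lit 14936327),
  (nat_lit 14370078),
  (nat_lit 9577119),
  (nat_lit 6161650),
  (nat_lit 13895419),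
  (nat_lit 16566969),
  (nat_lit 6509609),
  (nat_lit 11648053),
  (nat_lit 15086536),
  (nat_lit 1681621),
  (nat_lit 13064143)]
noncomputable def As_4 : List Nat := [(nat_lit 4769775),
  (nat_lit 6306404),
  (nat_lit 6301907),
  (nat_lit 45128),
  (nat_lit 2704768),
  (nat_lit 4768005),
  (nat_lit 2648448),
  (nat_lit 6204731),
  (nat_lit 6302167),
  (nat_lit 2752361),
  (nat_lit 7827234),
  (nat_lit 7817593),
  (nat_lit 6167226),
  (nat_lit 7859050),
  (nat_lit 3618329),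
  (nat_lit 79891),
  (nat_lit 7850353),
  (nat_lit 16343762),
  (nat_lit 10829591),
  (nat_lit 7469435),
  (nat_lit 8232167),
  (nat_lit 7924182),
  (nat_lit 997242),
  (nat_lit 2814724)]
noncomputable def As : List (List Nat) := [As_0, As_1, As_2, As_3, As_4]
noncomputable def Ts : List Nat := [(nat_lit 0xffffffffffffffffffffffffffffffff00000000000000000000000000000000),
  (nat_lit 0xffffffffffffffff0000000000000000ffffffffffffffff0000000000000000),
  (nat_lit 0xffffffff00000000ffffffff00000000ffffffff00000000ffffffff00000000),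
  (nat_lit 0xffff0000ffff0000ffff0000ffff0000ffff0000ffff0000ffff0000ffff0000),
  (nat_lit 0xff00ff00ff00ff00ff00ff00ff00ff00ff00ff00ff00ff00ff00ff00ff00ff00),
  (nat_lit 0xf0f0f0f0f0f0f0f0f0f0f0f0f0f0f0f0f0f0f0f0f0f0f0f0f0f0f0f0f0f0f0f0),
  (nat_lit 0xcccccccccccccccccccccccccccccccccccccccccccccccccccccccccccccccc),
  (nat_lit 0xaaaaaaaaaaaaaaaaaaaaaaaaaaaaaaaaaaaaaaaaaaaaaaaaaaaaaaaaaaaaaaaa),
  (nat_lit 0xcccc33333333cccccccc33333333cccccccc33333333cccccccc33333333cccc),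
  (nat_lit 0xffffffffffffffffffffffffffffffff0000000000000000),
  (nat_lit 0xf0ff0f00f0ff0f0f0f00f0ff0f00f0ff0f00f0ff0f00f0f0f0ff0f00f0ff0f0),
  (nat_lit 0x5a5a5a5a5a5a5a5aa5a5a5a5a5a5a5a5a5a5a5a5a5a5a5a55a5a5a5a5a5a5a5a),
  (nat_lit 0xf0ff0f00f0ff0f00f0ff0f00f0ff0f00f0ff0f00f0ff0f00f0ff0f00f0ff0f0),
  (nat_lit 0xaaaaaaaaaaaaaaaaaaaaaaaaaaaaaaaaaaaaaaaaaaaaaaaaaaaaaaaaaaaaaaaa),
  (nat_lit 0xf00f0ff0f00f0ff00ff0f00f0ff0f00f0ff0f00f0ff0f00ff00f0ff0f00f0ff0),
  (nat_lit 0x5a5a5a5a5a5a5a5a5a5a5a5a5a5a5a5a5a5a5a5a5a5a5a5a5a5a5a5a5a5a5a5a),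
  (nat_lit 0xf0f0f0f0f0f0f0f0f0f0f0f0f0f0f0f0f0f0f0f0f0f0f0f0f0f0f0f0f0f0f0f0),
  (nat_lit 0xf0f0f0f0f0f0f0f0f0f0f0f0f0f0f0f0f0f0f0f0f0f0f0f0f0f0f0f0f0f0f0f0),
  (nat_lit 0),
  (nat_lit 0xffff0000ffff00ff0000ffff0000ffff0000ffff0000ff00ffff0000ffff00),
  (nat_lit 0),
  (nat_lit 0xaaaaaaaaaaaaaaaaaaaaaaaaaaaaaaaaaaaaaaaaaaaaaaaaaaaaaaaaaaaaaaaa),
  (nat_lit 0x5aa5a55a5aa5a55aa55a5aa5a55a5aa5a55a5aa5a55a5aa55aa5a55a5aa5a55a),
  (nat_lit 0xf0f0f0f0f0f0f0f0f0f0f0f0f0f0f0f0f0f0f0f0f0f0f0f0f0f0f0f0f0f0f0f0)]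
noncomputable def F : List Nat := [(nat_lit 6334592),
  (nat_lit 320),
  (nat_lit 12835872),
  (nat_lit 4734992),
  (nat_lit 4740360),
  (nat_lit 260),
  (nat_lit 4738562),
  (nat_lit 4738561)]
noncomputable def ks : List Nat := [(nat_lit 136),
  (nat_lit 72),
  (nat_lit 56),
  (nat_lit 192),
  (nat_lit 192),
  (nat_lit 136),
  (nat_lit 26),
  (nat_lit 138),
  (nat_lit 24),
  (nat_lit 80),
  (nat_lit 192),
  (nat_lit 80),
  (nat_lit 192),
  (nat_lit 17),
  (nat_lit 4),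
  (nat_lit 218),
  (nat_lit 91),
  (nat_lit 3),
  (nat_lit 23),
  (nat_lit 21),
  (nat_lit 131),
  (nat_lit 201),
  (nat_lit 217),
  (nat_lit 131)]
noncomputable def N0_0 : Net := Net.nil
noncomputable def N0_1 : Net := Net.nil
noncomputable def N0_2 : Net := (Net.cons (nat_lit 4) (nat_lit 0xf000f000f000f000f000f000f000f000f000f000f000f000f000f000f000f00) (Net.cons (nat_lit 8) (nat_lit 0xff00ff00ff00ff000000000000000000ff00ff00ff00ff0000000000000000) (Net.cons (nat_lit 64) (nat_lit 0xffffffffffffffff00000000000000000000000000000000) (Net.cons (nat_lit 128) (nat_lit 0xcccccccc3333333333333333cccccccc) (Net.cons (nat_lit 64) (nat_lit 0x966996699669966900000000000000006996699669966996) (Net.cons (nat_lit 32) (nat_lit 0xa55a5aa500000000a55a5aa5000000005aa5a55a000000005aa5a55a) (Net.cons (nat_lit 16) (nat_lit 0xffff0000ffff0000ffff0000ffff0000000000000000) (Net.cons (nat_lit 8) (nat_lit 0xf000f000f000f0000f000f000f000f000f000f000f000f00f000f000f000f0)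 (Net.cons (nat_lit 4) (nat_lit 0x609060909060906060906090906090606090609090609060609060909060906) (Net.cons (nat_lit 2) (nat_lit 0x303303030300303030330303030030330300303030330303030030303033030) (Net.cons (nat_lit 1) (nat_lit 0x1111444444441111444411111111444411114444444411114444111111114444) Net.nil)))))))))))
noncomputable def N0_3 : Net := (Net.cons (nat_lit 2) (nat_lit 0x3333333333333333333333333333333300000000000000000000000000000000) (Net.cons (nat_lit 8) (nat_lit 0xff00ff00ff00ff00ff00ff00ff00ff00000000000000000000000000000000) (Net.cons (nat_lit 16) (nat_lit 0xffff000000000000ffff000000000000ffff000000000000ffff00000000) (Net.cons (nat_lit 64) (nat_lit 0xffffffffffffffff00000000000000000000000000000000) (Net.cons (nat_lit 128) (nat_lit 0xcc3333cc33cccc3333cccc33cc3333cc) (Net.cons (nat_lit 64) (nat_lit 0x55555555555555550000000000000000aaaaaaaaaaaaaaaa) (Net.cons (nat_lit 32) (nat_lit 0xa5a55a5a000000005a5aa5a5000000005a5aa5a500000000a5a55a5a)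 (Net.cons (nat_lit 16) (nat_lit 0xff000000ff000000ff000000ff000000ff000000ff000000ff000000ff0) (Net.cons (nat_lit 8) (nat_lit 0xf000f000f000f00f000f000f000f0000f000f000f000f00f000f000f000f0) (Net.cons (nat_lit 4) (nat_lit 0xa050a050a050a05050a050a050a050a0a050a050a050a05050a050a050a050a) (Net.cons (nat_lit 2) (nat_lit 0x333333330000000033333333000000003333333300000000333333330000) (Net.cons (nat_lit 1) (nat_lit 0x555555555555555555555555555555550000000000000000) Net.nil))))))))))))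
noncomputable def N0_4 : Net := (Net.cons (nat_lit 8) (nat_lit 0xff00ff00ff00ff00ff00ff00ff00ff00000000000000000000000000000000) (Net.cons (nat_lit 128) (nat_lit 0x69699696696996966969969669699696) (Net.cons (nat_lit 64) (nat_lit 0x696996966969969600000000000000006969969669699696) (Net.cons (nat_lit 32) (nat_lit 0x99996666000000006666999900000000666699990000000099996666) (Net.cons (nat_lit 16) (nat_lit 0xff000000ff00000000ff000000ff000000ff000000ff0000ff000000ff00) (Net.cons (nat_lit 8) (nat_lit 0xff00ff00ff00ff00ff00ff00ff00ff00000000000000000000000000000000) (Net.cons (nat_lit 2) (nat_lit 0x333333333333333333333333333333330000000000000000) (Net.cons (nat_lit 1) (nat_lit 0x55005500550055005500550055005555005500550055005500550055005500) Net.nil))))))))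
noncomputable def N0 : List Net := [N0_0, N0_1, N0_2, N0_3, N0_4]
noncomputable def N1_0 : Net := (Net.cons (nat_lit 1) (nat_lit 0x5555555555555555555555555555555500000000000000000000000000000000) (Net.cons (nat_lit 2) (nat_lit 0x3333333333333333000000000000000033333333333333330000000000000000) (Net.cons (nat_lit 128) (nat_lit 0xffffffff00000000ffffffff0000) (Net.cons (nat_lit 64) (nat_lit 0xf0f00f0f0f0ff0f00000000000000000f0f00f0f0f0ff0f0) (Net.cons (nat_lit 16) (nat_lit 0x699600006996000069960000699600006996000069960000699600006996) (Net.cons (nat_lit 8) (nat_lit 0x5500aa00aa0055005500aa00aa005500aa0055005500aa00aa0055005500aa) (Net.cons (nat_lit 4) (nat_lit 0x609060909060906060906090906090606090609090609060609060909060906) (Net.cons (nat_lit 2) (nat_lit 0x33333333000000003333333333333333000000003333333300000000) (Net.cons (nat_lit 1) (nat_lit 0x1144114444114411114411444411441144114411114411444411441111441144) Net.nil)))))))))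
noncomputable def N1_1 : Net := (Net.cons (nat_lit 2) (nat_lit 0x3333333333333333000000000000000033333333333333330000000000000000) (Net.cons (nat_lit 4) (nat_lit 0xf000f000f000f000f000f000f000f000f000f000f000f000f000f000f000f00) (Net.cons (nat_lit 16) (nat_lit 0xffff0000ffff0000ffff0000ffff00000000000000000000000000000000) (Net.cons (nat_lit 128) (nat_lit 0xa55a5aa5a55a5aa55aa5a55a5aa5a55a) (Net.cons (nat_lit 64) (nat_lit 0xc33cc33c3cc33cc300000000000000003cc33cc3c33cc33c) (Net.cons (nat_lit 16) (nat_lit 0xc33c0000c33c0000c33c0000c33c0000c33c0000c33c0000c33c0000c33c) (Net.cons (nat_lit 8) (nat_lit 0xf00f0000f00f000f0000f00f0000f00f0000f00f0000f000f00f0000f00f0) (Net.cons (nat_lit 4) (nat_lit 0xf000f0f000f00000f000f0f000f00000f000f0f000f00000f000f0f000f00) (Net.cons (nat_lit 2) (nat_lit 0x2121121212122121212112121212212112122121212112121212212121211212) (Net.cons (nat_lit 1) (nat_lit 0x550500550050550500505500550500550050550055050050550500550050550)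 Net.nil))))))))))
noncomputable def N1_2 : Net := (Net.cons (nat_lit 1) (nat_lit 0x5555555555555555000000000000000055555555555555550000000000000000) (Net.cons (nat_lit 2) (nat_lit 0x3333000033330000333300003333000033330000333300003333000033330000) (Net.cons (nat_lit 8) (nat_lit 0xff00ff00ff00ff000000000000000000ff00ff00ff00ff0000000000000000) (Net.cons (nat_lit 64) (nat_lit 0xffffffffffffffff00000000000000000000000000000000) (Net.cons (nat_lit 128) (nat_lit 0x3333cccccccc3333cccc33333333cccc) (Net.cons (nat_lit 64) (nat_lit 0x669966996699669900000000000000009966996699669966) (Net.cons (nat_lit 16) (nat_lit 0xaa55000055aa0000aa55000055aa0000aa55000055aa0000aa55000055aa) (Net.cons (nat_lit 8) (nat_lit 0xcc00cc003300330033003300cc00cc00cc00cc003300330033003300cc00cc) (Net.cons (nat_lit 4) (nat_lit 0xa05050a050a0a050a05050a050a0a05050a0a050a05050a050a0a050a05050a) (Net.cons (nat_lit 2) (nat_lit 0x333333333333333333333333333333330000000000000000)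 (Net.cons (nat_lit 1) (nat_lit 0x5050505005050505050505055050505050505050050505050505050550505050) Net.nil)))))))))))
noncomputable def N1 : List Net := [N1_0, N1_1, N1_2]
noncomputable def NW : List (List Nat) := [[(nat_lit 5), (nat_lit 8), (nat_lit 9), (nat_lit 8), (nat_lit 6), (nat_lit 6), (nat_lit 6), (nat_lit 8)],
  [(nat_lit 6), (nat_lit 8), (nat_lit 6), (nat_lit 7), (nat_lit 5), (nat_lit 8)],
  [(nat_lit 12), (nat_lit 13), (nat_lit 12), (nat_lit 12), (nat_lit 13), (nat_lit 11)]]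
noncomputable def rs : List (Nat × Nat × Nat × Nat) := [((nat_lit 0), (nat_lit 0), (nat_lit 0x842108421084210842108421084210), (nat_lit 1024)), ((nat_lit 1), (nat_lit 5), (nat_lit 0x8425094a1294a5284a1094a1094210), (nat_lit 1072)), ((nat_lit 2), (nat_lit 4), (nat_lit 0x842108429084210842108321084210), (nat_lit 1056))]
noncomputable def T : Tr := (.sym [[1], [3]] (.cons [] 6 3 (.op 4 0 (.focus 0 (.cons [] 0 3 (.op 4 0 (.focus 0 (.cons [] 0 3 (.op 4 0 (.focus 0 (.cons [] 0 3 (.op 4 0 (.focus 0 (.cons [] 0 3 (.op 2 0 (.xor 0 1 (.focus 0 (.xor 1 4 (.focus 0 (.xor 2 7 (.focus 0 (.xor 3 10 (.focus 0 (.xor 4 13 (.focus 0 (.base (nat_lit 14245691) (.focus 0 (.sym [[1]] (.cons [] 2 1 (.op 4 0 (.focus 0 (.cons [] 0 1 .triv .nil))) (.cons [4] 2 0 (.base (nat_lit 66562) (.op 4 1 (.and 1 0 (.dead0 0)))) (.cons [1] 2 0 (.base (nat_lit 66562) (.op 4 1 (.and 1 0 (.dead0 0)))) (.cons [5] 2 0 (.base (nat_lit 66562) (.op 4 1 (.and 1 0 (.dead0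 0)))) (.cons [6] 2 0 (.base (nat_lit 66562) (.op 4 1 (.and 1 0 (.dead0 0)))) (.cons [4, 1] 0 0 (.op 5 0 (.and 1 0 (.dead0 0))) .nil)))))))))))))))))))) .nil))) .nil))) .nil))) .nil))) (.cons [2] 2 0 (.op 5 0 (.and 1 0 (.dead0 0))) .nil)))
noncomputable def TK : List (List Nat) := [[2, 4, 1, 4, 4, 4, 2, 2, 3, 2, 2, 4, 1, 1, 1, 3, 2, 3], [1, 4, 1, 4, 4, 4, 1, 4, 4, 4, 2, 4, 4, 4, 4, 4, 2]]
noncomputable def TF : List (List Nat) := [[], [1]]
noncomputable def cM : List Lvl := [⟨(nat_lit 7), [[(nat_lit 1)],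
  [(nat_lit 3)]], (nat_lit 4)⟩,
  ⟨(nat_lit 18), [[(nat_lit 4), (nat_lit 4), (nat_lit 2)],
  [(nat_lit 1), (nat_lit 1), (nat_lit 3), (nat_lit 2)]], (nat_lit 6)⟩,
  ⟨(nat_lit 15), [[(nat_lit 4), (nat_lit 4), (nat_lit 2)],
  [(nat_lit 2), (nat_lit 4), (nat_lit 1), (nat_lit 4), (nat_lit 4), (nat_lit 1), (nat_lit 1)]], (nat_lit 5)⟩,
  ⟨(nat_lit 13), [[(nat_lit 4), (nat_lit 1), (nat_lit 4), (nat_lit 2), (nat_lit 2), (nat_lit 3), (nat_lit 2), (nat_lit 4), (nat_lit 1)],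
  [(nat_lit 1), (nat_lit 4), (nat_lit 4), (nat_lit 2), (nat_lit 4), (nat_lit 2), (nat_lit 4), (nat_lit 4), (nat_lit 1)]], (nat_lit 4)⟩,
  ⟨(nat_lit 21), [[(nat_lit 2), (nat_lit 4), (nat_lit 4), (nat_lit 1), (nat_lit 4), (nat_lit 2), (nat_lit 3), (nat_lit 1), (nat_lit 1), (nat_lit 3)],
  [(nat_lit 1), (nat_lit 4), (nat_lit 2), (nat_lit 4), (nat_lit 2), (nat_lit 2), (nat_lit 2), (nat_lit 4), (nat_lit 2), (nat_lit 2), (nat_lit 3), (nat_lit 2)]], (nat_lit 4)⟩,
  ⟨(nat_lit 0), [[(nat_lit 3), (nat_lit 1), (nat_lit 4), (nat_lit 1), (nat_lit 4), (nat_lit 1), (nat_lit 4), (nat_lit 4), (nat_lit 1), (nat_lit 4), (nat_lit 2), (nat_lit 2), (nat_lit 3)],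
  [(nat_lit 1), (nat_lit 3), (nat_lit 3), (nat_lit 3), (nat_lit 2), (nat_lit 3), (nat_lit 2), (nat_lit 4), (nat_lit 2), (nat_lit 4), (nat_lit 1), (nat_lit 4), (nat_lit 4), (nat_lit 4)],
  [(nat_lit 2), (nat_lit 4), (nat_lit 4), (nat_lit 1), (nat_lit 3), (nat_lit 3), (nat_lit 3), (nat_lit 2), (nat_lit 3), (nat_lit 2), (nat_lit 4), (nat_lit 2), (nat_lit 4), (nat_lit 1), (nat_lit 4), (nat_lit 1)]], (nat_lit 3)⟩,
  ⟨(nat_lit 1), [[(nat_lit 4), (nat_lit 4), (nat_lit 1), (nat_lit 4), (nat_lit 2), (nat_lit 2), (nat_lit 3), (nat_lit 1), (nat_lit 1), (nat_lit 1), (nat_lit 4), (nat_lit 2), (nat_lit 4), (nat_lit 2), (nat_lit 3), (nat_lit 1), (nat_lit 1)]], (nat_lit 2)⟩]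
noncomputable def L : Lvl := ⟨(nat_lit 192), [[(nat_lit 5)],
  [(nat_lit 7)],
  [(nat_lit 9)]], (nat_lit 5)⟩
noncomputable def t : List Lvl := [⟨(nat_lit 39), [[(nat_lit 11)],
  [(nat_lit 13)]], (nat_lit 4)⟩,
  ⟨(nat_lit 3), [[(nat_lit 15)]], (nat_lit 2)⟩]
noncomputable def Us : List Nat := [(nat_lit 0),
  (nat_lit 0),
  (nat_lit 0),
  (nat_lit 768),
  (nat_lit 0),
  (nat_lit 0),
  (nat_lit 0),
  (nat_lit 192),
  (nat_lit 160),
  (nat_lit 0),
  (nat_lit 24),
  (nat_lit 0),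
  (nat_lit 0),
  (nat_lit 0),
  (nat_lit 0),
  (nat_lit 132),
  (nat_lit 66),
  (nat_lit 0),
  (nat_lit 0),
  (nat_lit 0),
  (nat_lit 544),
  (nat_lit 0),
  (nat_lit 20),
  (nat_lit 576),
  (nat_lit 0),
  (nat_lit 5),
  (nat_lit 0),
  (nat_lit 0),
  (nat_lit 48),
  (nat_lit 0),
  (nat_lit 0),
  (nat_lit 0),
  (nat_lit 0),
  (nat_lit 0),
  (nat_lit 0),
  (nat_lit 0),
  (nat_lit 0),
  (nat_lit 0),
  (nat_lit 0),
  (nat_lit 10),
  (nat_lit 0),
  (nat_lit 0),
  (nat_lit 0),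
  (nat_lit 0),
  (nat_lit 0),
  (nat_lit 9),
  (nat_lit 0),
  (nat_lit 0),
  (nat_lit 0),
  (nat_lit 0),
  (nat_lit 0),
  (nat_lit 0),
  (nat_lit 257),
  (nat_lit 0),
  (nat_lit 0),
  (nat_lit 258),
  (nat_lit 0),
  (nat_lit 0),
  (nat_lit 0),
  (nat_lit 0),
  (nat_lit 0),
  (nat_lit 0),
  (nat_lit 0),
  (nat_lit 0),
  (nat_lit 0),
  (nat_lit 80),
  (nat_lit 0),
  (nat_lit 0),
  (nat_lit 6),
  (nat_lit 520),
  (nat_lit 576),
  (nat_lit 0),
  (nat_lit 0),
  (nat_lit 0),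
  (nat_lit 0),
  (nat_lit 20),
  (nat_lit 0),
  (nat_lit 0),
  (nat_lit 0),
  (nat_lit 9),
  (nat_lit 0),
  (nat_lit 576),
  (nat_lit 516),
  (nat_lit 0),
  (nat_lit 258),
  (nat_lit 0),
  (nat_lit 65),
  (nat_lit 272),
  (nat_lit 0),
  (nat_lit 0),
  (nat_lit 0),
  (nat_lit 0),
  (nat_lit 0),
  (nat_lit 20),
  (nat_lit 0),
  (nat_lit 0),
  (nat_lit 384),
  (nat_lit 0),
  (nat_lit 9),
  (nat_lit 258),
  (nat_lit 0),
  (nat_lit 0),
  (nat_lit 0),
  (nat_lit 160),
  (nat_lit 136),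
  (nat_lit 0),
  (nat_lit 0),
  (nat_lit 0),
  (nat_lit 0),
  (nat_lit 0),
  (nat_lit 0),
  (nat_lit 160),
  (nat_lit 0),
  (nat_lit 0),
  (nat_lit 0),
  (nat_lit 34),
  (nat_lit 0),
  (nat_lit 0),
  (nat_lit 0),
  (nat_lit 0),
  (nat_lit 0),
  (nat_lit 0),
  (nat_lit 0),
  (nat_lit 33),
  (nat_lit 0),
  (nat_lit 0),
  (nat_lit 0),
  (nat_lit 0),
  (nat_lit 0),
  (nat_lit 0),
  (nat_lit 0),
  (nat_lit 0),
  (nat_lit 5),
  (nat_lit 768),
  (nat_lit 768),
  (nat_lit 0),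
  (nat_lit 0),
  (nat_lit 0),
  (nat_lit 0),
  (nat_lit 6),
  (nat_lit 0),
  (nat_lit 0),
  (nat_lit 0),
  (nat_lit 0),
  (nat_lit 0),
  (nat_lit 520),
  (nat_lit 516),
  (nat_lit 0),
  (nat_lit 0),
  (nat_lit 0),
  (nat_lit 0),
  (nat_lit 0),
  (nat_lit 0),
  (nat_lit 0),
  (nat_lit 0),
  (nat_lit 10),
  (nat_lit 0),
  (nat_lit 5),
  (nat_lit 0),
  (nat_lit 0),
  (nat_lit 0),
  (nat_lit 0),
  (nat_lit 0),
  (nat_lit 0),
  (nat_lit 48),
  (nat_lit 0),
  (nat_lit 0),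
  (nat_lit 0),
  (nat_lit 0),
  (nat_lit 65),
  (nat_lit 0),
  (nat_lit 0),
  (nat_lit 34),
  (nat_lit 0),
  (nat_lit 80),
  (nat_lit 0),
  (nat_lit 33),
  (nat_lit 384),
  (nat_lit 272),
  (nat_lit 0),
  (nat_lit 0),
  (nat_lit 0),
  (nat_lit 136),
  (nat_lit 0),
  (nat_lit 48),
  (nat_lit 192),
  (nat_lit 0),
  (nat_lit 0),
  (nat_lit 10),
  (nat_lit 0),
  (nat_lit 192),
  (nat_lit 0),
  (nat_lit 516),
  (nat_lit 0),
  (nat_lit 0),
  (nat_lit 544),
  (nat_lit 0),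
  (nat_lit 0),
  (nat_lit 0),
  (nat_lit 0),
  (nat_lit 0),
  (nat_lit 0),
  (nat_lit 0),
  (nat_lit 33),
  (nat_lit 0),
  (nat_lit 0),
  (nat_lit 0),
  (nat_lit 6),
  (nat_lit 0),
  (nat_lit 384),
  (nat_lit 257),
  (nat_lit 0),
  (nat_lit 520),
  (nat_lit 0),
  (nat_lit 132),
  (nat_lit 544),
  (nat_lit 0),
  (nat_lit 132),
  (nat_lit 0),
  (nat_lit 0),
  (nat_lit 0),
  (nat_lit 0),
  (nat_lit 136),
  (nat_lit 34),
  (nat_lit 0),
  (nat_lit 0),
  (nat_lit 0),
  (nat_lit 0),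
  (nat_lit 0),
  (nat_lit 272),
  (nat_lit 257),
  (nat_lit 0),
  (nat_lit 66),
  (nat_lit 0),
  (nat_lit 0),
  (nat_lit 0),
  (nat_lit 0),
  (nat_lit 0),
  (nat_lit 0),
  (nat_lit 80),
  (nat_lit 0),
  (nat_lit 0),
  (nat_lit 0),
  (nat_lit 24),
  (nat_lit 0),
  (nat_lit 0),
  (nat_lit 0),
  (nat_lit 0),
  (nat_lit 66),
  (nat_lit 24),
  (nat_lit 0),
  (nat_lit 0),
  (nat_lit 0),
  (nat_lit 0),
  (nat_lit 0),
  (nat_lit 65)]
noncomputable def Z0_0 : Net := Net.nil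
noncomputable def Z0_1 : Net := Net.nil
noncomputable def Z0_2 : Net := (Net.cons (nat_lit 1) (nat_lit 320) (Net.cons (nat_lit 2) (nat_lit 34) (Net.cons (nat_lit 4) (nat_lit 2) (Net.cons (nat_lit 8) (nat_lit 2) (Net.cons (nat_lit 2) (nat_lit 2) (Net.cons (nat_lit 1) (nat_lit 324) Net.nil))))))
noncomputable def Z0_3 : Net := (Net.cons (nat_lit 2) (nat_lit 32) (Net.cons (nat_lit 4) (nat_lit 8) (Net.cons (nat_lit 2) (nat_lit 32) (Net.cons (nat_lit 1) (nat_lit 4) Net.nil))))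
noncomputable def Z0_4 : Net := (Net.cons (nat_lit 4) (nat_lit 15) (Net.cons (nat_lit 2) (nat_lit 33) (Net.cons (nat_lit 1) (nat_lit 341) Net.nil)))
noncomputable def Z0 : List Net := [Z0_0, Z0_1, Z0_2, Z0_3, Z0_4]
noncomputable def Z1_0 : Net := (Net.cons (nat_lit 1) (nat_lit 320) (Net.cons (nat_lit 4) (nat_lit 1) (Net.cons (nat_lit 8) (nat_lit 1) (Net.cons (nat_lit 4) (nat_lit 9) (Net.cons (nat_lit 2) (nat_lit 48) (Net.cons (nat_lit 1) (nat_lit 320) Net.nil))))))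
noncomputable def Z1_1 : Net := (Net.cons (nat_lit 1) (nat_lit 336) (Net.cons (nat_lit 2) (nat_lit 1) (Net.cons (nat_lit 4) (nat_lit 1) (Net.cons (nat_lit 8) (nat_lit 3) (Net.cons (nat_lit 4) (nat_lit 15) (Net.cons (nat_lit 2) (nat_lit 17) (Net.cons (nat_lit 1) (nat_lit 64) Net.nil)))))))
noncomputable def Z1_2 : Net := (Net.cons (nat_lit 1) (nat_lit 320) (Net.cons (nat_lit 2) (nat_lit 17) (Net.cons (nat_lit 4) (nat_lit 1) (Net.cons (nat_lit 8) (nat_lit 1) (Net.cons (nat_lit 4) (nat_lit 5) (Net.cons (nat_lit 2) (nat_lit 1) (Net.cons (nat_lit 1) (nat_lit 321) Net.nil)))))))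
noncomputable def Z1_3 : Net := (Net.cons (nat_lit 1) (nat_lit 20) (Net.cons (nat_lit 2) (nat_lit 49) (Net.cons (nat_lit 4) (nat_lit 1) (Net.cons (nat_lit 8) (nat_lit 1) (Net.cons (nat_lit 4) (nat_lit 2) (Net.cons (nat_lit 2) (nat_lit 17) (Net.cons (nat_lit 1) (nat_lit 20) Net.nil)))))))
noncomputable def Z1_4 : Net := (Net.cons (nat_lit 1) (nat_lit 64) (Net.cons (nat_lit 2) (nat_lit 18) (Net.cons (nat_lit 4) (nat_lit 1) (Net.cons (nat_lit 8) (nat_lit 3) (Net.cons (nat_lit 4) (nat_lit 9) (Net.cons (nat_lit 2) (nat_lit 16) (Net.cons (nat_lit 1) (nat_lit 256) Net.nil)))))))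
noncomputable def Z1_5 : Net := (Net.cons (nat_lit 1) (nat_lit 16) (Net.cons (nat_lit 4) (nat_lit 2) (Net.cons (nat_lit 2) (nat_lit 32) (Net.cons (nat_lit 1) (nat_lit 16) Net.nil))))
noncomputable def Z1_6 : Net := (Net.cons (nat_lit 1) (nat_lit 320) (Net.cons (nat_lit 2) (nat_lit 34) (Net.cons (nat_lit 8) (nat_lit 2) (Net.cons (nat_lit 4) (nat_lit 2) (Net.cons (nat_lit 2) (nat_lit 34) (Net.cons (nat_lit 1) (nat_lit 320) Net.nil))))))
noncomputable def Z1_7 : Net := (Net.cons (nat_lit 1) (nat_lit 320) (Net.cons (nat_lit 2) (nat_lit 16) (Net.cons (nat_lit 4) (nat_lit 1) (Net.cons (nat_lit 8) (nat_lit 1) (Net.cons (nat_lit 4) (nat_lit 1) (Net.cons (nat_lit 1) (nat_lit 320) Net.nil))))))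
noncomputable def Z1_8 : Net := (Net.cons (nat_lit 1) (nat_lit 320) (Net.cons (nat_lit 4) (nat_lit 1) (Net.cons (nat_lit 8) (nat_lit 1) (Net.cons (nat_lit 4) (nat_lit 1) (Net.cons (nat_lit 2) (nat_lit 16) (Net.cons (nat_lit 1) (nat_lit 320) Net.nil))))))
noncomputable def Z1 : List Net := [Z1_0, Z1_1, Z1_2, Z1_3, Z1_4, Z1_5, Z1_6, Z1_7, Z1_8]
noncomputable def ZW : List (List Nat) := [[(nat_lit 6), (nat_lit 10), (nat_lit 6), (nat_lit 7), (nat_lit 5), (nat_lit 9), (nat_lit 8), (nat_lit 6), (nat_lit 6), (nat_lit 6)],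
  [(nat_lit 7), (nat_lit 10), (nat_lit 5), (nat_lit 9), (nat_lit 5), (nat_lit 5), (nat_lit 9), (nat_lit 7), (nat_lit 9)],
  [(nat_lit 11), (nat_lit 14), (nat_lit 14), (nat_lit 12)],
  [(nat_lit 14), (nat_lit 12), (nat_lit 12), (nat_lit 12), (nat_lit 14), (nat_lit 14), (nat_lit 11), (nat_lit 13)],
  [(nat_lit 18), (nat_lit 18), (nat_lit 15), (nat_lit 15), (nat_lit 18), (nat_lit 18), (nat_lit 16)],
  [(nat_lit 16), (nat_lit 18), (nat_lit 16), (nat_lit 18), (nat_lit 18)],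
  [(nat_lit 21), (nat_lit 19), (nat_lit 19), (nat_lit 21), (nat_lit 19), (nat_lit 22), (nat_lit 19)],
  [(nat_lit 20), (nat_lit 20), (nat_lit 21), (nat_lit 19), (nat_lit 19)],
  [(nat_lit 26), (nat_lit 24), (nat_lit 25), (nat_lit 25), (nat_lit 23), (nat_lit 26), (nat_lit 26)]]
noncomputable def ZC : List Lvl := [⟨(nat_lit 2), [[(nat_lit 5)],
  [(nat_lit 7)],
  [(nat_lit 9)]], (nat_lit 4)⟩,
  ⟨(nat_lit 5), [[(nat_lit 11)],
  [(nat_lit 13)]], (nat_lit 2)⟩,
  ⟨(nat_lit 0), [[(nat_lit 15)],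
  [(nat_lit 17)]], (nat_lit 3)⟩,
  ⟨(nat_lit 1), [[(nat_lit 19)],
  [(nat_lit 21)]], (nat_lit 2)⟩,
  ⟨(nat_lit 3), [[(nat_lit 23)],
  [(nat_lit 25)]], (nat_lit 2)⟩,
  ⟨(nat_lit 4), [[(nat_lit 27)]], (nat_lit 2)⟩]

end CF.Known.Mon.C5
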