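import Cfsg.Agent.Bt.Defs

/-! Data for a centralizer in `Co0`. -/

set_option autoImplicit false
set_option maxRecDepth 1000000
set_option maxHeartbeats 0

namespace CF.Known.Mon.C7

open CF.Comp CF.Bt

noncomputable def w : List Nat := [(nat_lit 4), (nat_lit 4), (nat_lit 2), (nat_lit 3), (nat_lit 1)]
noncomputable def Ys_0 : List Nat := [(nat_lit 0x842108421084214a42108421084210),
  (nat_lit 0x84210842108420ca42108421084210),
  (nat_lit 0x7bdef7bdef7bdef5bdef7bdef7bdef),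
  (nat_lit 0x842108421084210a42108521084210),
  (nat_lit 0x842908421084210a42108421084210),
  (nat_lit 0x842148421084210a42108421084210),
  (nat_lit 0x842108421084210a42108421084290),
  (nat_lit 0x842108421084210a42108429084210),
  (nat_lit 0xa42108421084210a42108421084210),
  (nat_lit 0x842108421084210a42908421084210),
  (nat_lit 0x842108421084210a42108421484210),
  (nat_lit 0x842108421084210a421084210a4210),
  (nat_lit 0x842108421084210a42148421084210),
  (nat_lit 0x842109425284a10842109421284252),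
  (nat_lit 0x84a109425284212942109425084210),
  (nat_lit 0x842108421284a109421294a5284210),
  (nat_lit 0x842508421084a10942129421094252),
  (nat_lit 0x8421284a1094a5084a1084a1084250),
  (nat_lit 0x84a508421084252942109421084a50),
  (nat_lit 0x84a508421094a1094a508421084250),
  (nat_lit 0x842509421084252842128421284252),
  (nat_lit 0x842109425094212842108425294250),
  (nat_lit 0x8425284a1084250842108421094a52),
  (nat_lit 0x8425284210842508421294a5084250)]
noncomputable def Ys_1 : List Nat := [(nat_lit 0x64210842108421084210842108420c),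
  (nat_lit 0x642108421084210842108421084214),
  (nat_lit 0xac6318c6318c6318c6318c6318c631),
  (nat_lit 0x642108421084210842108419084210),
  (nat_lit 0x6420c8421084210842108421084210),
  (nat_lit 0x642108421084210642108421084210),
  (nat_lit 0x642108419084210842108421084210),
  (nat_lit 0x642108420c84210842108421084210),
  (nat_lit 0x642108421084210842108321084210),
  (nat_lit 0x642108321084210842108421084210),
  (nat_lit 0x642108421084210842108420c84210),
  (nat_lit 0x642108421084210842106421084210),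
  (nat_lit 0x6421084210842108420c8421084210),
  (nat_lit 0x841d0741d0739d083a108420e84210),
  (nat_lit 0x741d07420e839d084210842107420e),
  (nat_lit 0x741d08420e841d083a0e841ce84210),
  (nat_lit 0x7420e841d0741d083a0e7421084210),
  (nat_lit 0x84210841d08420e739d0841d0839d0),
  (nat_lit 0x73a0e841d0841d0841d0842107420e),
  (nat_lit 0x7420e839d08420e83a1084210741d0),
  (nat_lit 0x8420e741d074210841ce8420e8420e),
  (nat_lit 0x84210741ce83a10842107420e841ce),
  (nat_lit 0x83a0e841d074210741d07421083a10),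
  (nat_lit 0x8420e841ce841d0741ce841d084210)]
noncomputable def Ys_2 : List Nat := [(nat_lit 0x8321084210a4210842108421084210),
  (nat_lit 0x832108421064210842108421084210),
  (nat_lit 0x7d5ef7c5ef7be2f7be2f8bdf18c5ef),
  (nat_lit 0x832108421084210842106421084210),
  (nat_lit 0x832108321084210842108421084210),
  (nat_lit 0x832108421084210842108421083210),
  (nat_lit 0x832108421085210842108421084210),
  (nat_lit 0x832108421084190842108421084210),
  (nat_lit 0x832108421084210842108421064210),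
  (nat_lit 0xa32108421084210842108421084210),
  (nat_lit 0x83210a421084210842108421084210),
  (nat_lit 0x832908421084210842108421084210),
  (nat_lit 0x832108421084210842148421084210),
  (nat_lit 0x842129421084a12849d08420e84250),
  (nat_lit 0x83a1284212941d0849d08420e84210),
  (nat_lit 0x83a1294210841d2841d27421084210),
  (nat_lit 0x83a5283a1084a12842128421084250),
  (nat_lit 0x842108425084a129421074a1083a12),
  (nat_lit 0x83a1283a1294a10942108425084210),
  (nat_lit 0x93a1083a5284a12842108421084212),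
  (nat_lit 0x8421093a1094a10942128420e84250),
  (nat_lit 0x8425094250949d084a108420e84210),
  (nat_lit 0x8425083a1084a109421084a5083a50),
  (nat_lit 0x8421283a10849d0942127421083a10)]
noncomputable def Ys_3 : List Nat := [(nat_lit 0x8c6318be2f7cdef7c6318bdef7c5f1),
  (nat_lit 0x8be318c5ef8c6317bdef9bdf18be2f),
  (nat_lit 0x842106421283a109420e74a5284210),
  (nat_lit 0x942109420e84a128425093a1084210),
  (nat_lit 0x84a129421084a107421093a1084250),
  (nat_lit 0x842509425084a1084210939d094210),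
  (nat_lit 0x8c6318be2f8c6317bdf19bdef7bdf1),
  (nat_lit 0x9421094a1084a1074210941d084212),
  (nat_lit 0x842129420e84a5084a10941d084210),
  (nat_lit 0x84250941d084a1084210939d074210),
  (nat_lit 0x842108420e84a107420e939ce84210),
  (nat_lit 0x9421093a1084a1074210941d08420e),
  (nat_lit 0x8c6318c5ef7c62f7be319bdef8c5ef),
  (nat_lit 0x7420e8420e94210742128420e83a10),
  (nat_lit 0x8420e9420e84a0e742128421084212),
  (nat_lit 0x8420e94a0e84210742509420e84210),
  (nat_lit 0x84a109421084210742129420e83a0e),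
  (nat_lit 0x83a109425083a128421283a0e84210),
  (nat_lit 0x7c5f19be2f7c5ef7bdf18be2f7bdf1),
  (nat_lit 0x842109421084210841d293a0e74250),
  (nat_lit 0x749d084210842107421283a0e841d0),
  (nat_lit 0x841ce83a108421074212841ce84212),
  (nat_lit 0x7c5f19be318bdf17bdf17bdef8bdef),
  (nat_lit 0x7c5ef9c6317be317be318be2f8bdf1)]
noncomputable def Ys : List (List Nat) := [Ys_0, Ys_1, Ys_2, Ys_3]
noncomputable def As_0 : List Nat := [(nat_lit 6840),
  (nat_lit 6843),
  (nat_lit 39),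
  (nat_lit 291),
  (nat_lit 5658),
  (nat_lit 51),
  (nat_lit 1736),
  (nat_lit 43),
  (nat_lit 32),
  (nat_lit 6417),
  (nat_lit 1059),
  (nat_lit 5496),
  (nat_lit 4131),
  (nat_lit 2097152),
  (nat_lit 15973440),
  (nat_lit 14257609),
  (nat_lit 11596576),
  (nat_lit 3549618),
  (nat_lit 523778),
  (nat_lit 11925475),
  (nat_lit 5766658),
  (nat_lit 5704658),
  (nat_lit 11215032),
  (nat_lit 6819512)]
noncomputable def As_1 : List Nat := [(nat_lit 1),
  (nat_lit 2),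
  (nat_lit 4),
  (nat_lit 8),
  (nat_lit 16),
  (nat_lit 32),
  (nat_lit 64),
  (nat_lit 128),
  (nat_lit 256),
  (nat_lit 512),
  (nat_lit 1024),
  (nat_lit 2048),
  (nat_lit 4096),
  (nat_lit 8192),
  (nat_lit 16384),
  (nat_lit 32768),
  (nat_lit 65536),
  (nat_lit 131072),
  (nat_lit 262144),
  (nat_lit 524288),
  (nat_lit 1048576),
  (nat_lit 2097152),
  (nat_lit 4194304),
  (nat_lit 8388608)]
noncomputable def As_2 : List Nat := [(nat_lit 7952),
  (nat_lit 7955),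
  (nat_lit 9397239),
  (nat_lit 3570),
  (nat_lit 2034),
  (nat_lit 2976),
  (nat_lit 6233),
  (nat_lit 3128),
  (nat_lit 4265),
  (nat_lit 1522),
  (nat_lit 4723),
  (nat_lit 5064),
  (nat_lit 5617),
  (nat_lit 4703714),
  (nat_lit 291273),
  (nat_lit 7578017),
  (nat_lit 1843288),
  (nat_lit 8010368),
  (nat_lit 14407480),
  (nat_lit 4005539),
  (nat_lit 15601363),
  (nat_lit 11721),
  (nat_lit 7587107),
  (nat_lit 1825672)]
noncomputable def As_3 : List Nat := [(nat_lit 13665102),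
  (nat_lit 533311),
  (nat_lit 14262243),
  (nat_lit 3101072),
  (nat_lit 15484177),
  (nat_lit 4814848),
  (nat_lit 6463004),
  (nat_lit 13548176),
  (nat_lit 113314),
  (nat_lit 4812056),
  (nat_lit 14260322),
  (nat_lit 13547666),
  (nat_lit 9329174),
  (nat_lit 4548322),
  (nat_lit 15098696),
  (nat_lit 14552577),
  (nat_lit 5245424),
  (nat_lit 2761848),
  (nat_lit 1433372),
  (nat_lit 7923896),
  (nat_lit 15559657),
  (nat_lit 13602947),
  (nat_lit 6476870),
  (nat_lit 2940485)]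
noncomputable def As : List (List Nat) := [As_0, As_1, As_2, As_3]
noncomputable def Ts : List Nat := [(nat_lit 0xffffffff00000000),
  (nat_lit 0xffff0000ffff0000),
  (nat_lit 0xff00ff00ff00ff00),
  (nat_lit 0),
  (nat_lit 0xf0f0f0f0f0f0f0f0),
  (nat_lit 0xf0f0f0f0f0f0f0f0),
  (nat_lit 0xf0f0f0f0f0f0f0f0),
  (nat_lit 0xcccccccccccccccc),
  (nat_lit 0xcccccccccccccccc),
  (nat_lit 0xf0f00f0f0f0ff0f0),
  (nat_lit 0xaaaaaaaaaaaaaaaa),
  (nat_lit 0),
  (nat_lit 0xa55a5aa55aa5a55a),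
  (nat_lit 0xcccc33333333cccc),
  (nat_lit 0x3c3cc3c3c3c33c3c),
  (nat_lit 0xf0f0f0f0f0f0f0f0),
  (nat_lit 0x3c3cc3c3c3c33c3c),
  (nat_lit 0x3c3cc3c3c3c33c3c),
  (nat_lit 0x3c3cc3c3c3c33c3c),
  (nat_lit 0xcccc33333333cccc),
  (nat_lit 0xf0f0f0f0f0f0f0f0),
  (nat_lit 0),
  (nat_lit 0xf0f0f0f0f0f0f0f0),
  (nat_lit 0xcccc33333333cccc)]
noncomputable def F : List Nat := [(nat_lit 5120),
  (nat_lit 9396608),
  (nat_lit 5755504),
  (nat_lit 4100),
  (nat_lit 9400834),
  (nat_lit 9400833)]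
noncomputable def ks : List Nat := [(nat_lit 35),
  (nat_lit 19),
  (nat_lit 43),
  (nat_lit 48),
  (nat_lit 48),
  (nat_lit 48),
  (nat_lit 35),
  (nat_lit 48),
  (nat_lit 48),
  (nat_lit 34),
  (nat_lit 34),
  (nat_lit 34),
  (nat_lit 35),
  (nat_lit 22),
  (nat_lit 20),
  (nat_lit 36),
  (nat_lit 38),
  (nat_lit 18),
  (nat_lit 19),
  (nat_lit 18),
  (nat_lit 34),
  (nat_lit 22),
  (nat_lit 19),
  (nat_lit 53)]
noncomputable def N0_0 : Net := Net.nil
noncomputable def N0_1 : Net := Net.nil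
noncomputable def N0_2 : Net := (Net.cons (nat_lit 2) (nat_lit 0x3333000033330000) (Net.cons (nat_lit 32) (nat_lit 859032780) (Net.cons (nat_lit 16) (nat_lit 0x669900009966) (Net.cons (nat_lit 4) (nat_lit 0x609090606090906) (Net.cons (nat_lit 2) (nat_lit 0x1111111122222222) (Net.cons (nat_lit 1) (nat_lit 0x5500550055005500) Net.nil))))))
noncomputable def N0_3 : Net := (Net.cons (nat_lit 1) (nat_lit 0x5555555500000000) (Net.cons (nat_lit 4) (nat_lit 0xf0f0f0f00000000) (Net.cons (nat_lit 8) (nat_lit 0xff00ff00000000) (Net.cons (nat_lit 32) (nat_lit 3275539260) (Net.cons (nat_lit 16) (nat_lit 0x3cc30000c33c) (Net.cons (nat_lit 8) (nat_lit 0xaa00aa00aa00aa) (Net.cons (nat_lit 4) (nat_lit 0xc03030c0c03030c) (Net.cons (nat_lit 2) (nat_lit 0x3003300303300330) (Net.cons (nat_lit 1) (nat_lit 0x4411441111441144) Net.nil)))))))))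
noncomputable def N0 : List Net := [N0_0, N0_1, N0_2, N0_3]
noncomputable def N1_0 : Net := (Net.cons (nat_lit 1) (nat_lit 0x5555555500000000) (Net.cons (nat_lit 4) (nat_lit 0xf0f0f0f00000000) (Net.cons (nat_lit 32) (nat_lit 1771465110) (Net.cons (nat_lit 4) (nat_lit 0xc03030c0c03030c) (Net.cons (nat_lit 2) (nat_lit 0x2211112222111122) (Net.cons (nat_lit 1) (nat_lit 0x4411441111441144) Net.nil))))))
noncomputable def N1_1 : Net := (Net.cons (nat_lit 2) (nat_lit 0x3333000033330000) (Net.cons (nat_lit 32) (nat_lit 859032780) (Net.cons (nat_lit 16) (nat_lit 0x669900009966) (Net.cons (nat_lit 4) (nat_lit 0x609090606090906) (Net.cons (nat_lit 2) (nat_lit 0x1111111122222222) (Net.cons (nat_lit 1) (nat_lit 0x5500550055005500) Net.nil))))))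
noncomputable def N1_2 : Net := (Net.cons (nat_lit 1) (nat_lit 0x5555555500000000) (Net.cons (nat_lit 32) (nat_lit 2779077210) (Net.cons (nat_lit 2) (nat_lit 0x2211112222111122) (Net.cons (nat_lit 1) (nat_lit 0x5555555500000000) Net.nil))))
noncomputable def N1_3 : Net := (Net.cons (nat_lit 1) (nat_lit 0x5555000055550000) (Net.cons (nat_lit 32) (nat_lit 4042322160) (Net.cons (nat_lit 16) (nat_lit 0x5aa50000a55a) (Net.cons (nat_lit 2) (nat_lit 0x1221122121122112) (Net.cons (nat_lit 1) (nat_lit 0x505505005055050) Net.nil)))))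
noncomputable def N1 : List Net := [N1_0, N1_1, N1_2, N1_3]
noncomputable def NW : List (List Nat) := [[(nat_lit 8), (nat_lit 8), (nat_lit 6), (nat_lit 8)],
  [(nat_lit 6), (nat_lit 6), (nat_lit 6)],
  [(nat_lit 12), (nat_lit 12), (nat_lit 9), (nat_lit 9), (nat_lit 11), (nat_lit 9)],
  [(nat_lit 12), (nat_lit 12), (nat_lit 10), (nat_lit 12), (nat_lit 9)]]
noncomputable def rs : List (Nat × Nat × Nat × Nat) := [((nat_lit 0), (nat_lit 0), (nat_lit 0x842108421084210842108421084210), (nat_lit 1024)), ((nat_lit 1), (nat_lit 4), (nat_lit 0x842108421084210842148420c84210), (nat_lit 1056)), ((nat_lit 3), (nat_lit 4), (nat_lit 0x84a10a4a1084250842509420e94a10), (nat_lit 1072))]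
noncomputable def T : Tr := (.sym [[1], [3]] (.cons [] 8 2 (.op 4 0 (.focus 0 (.cons [] 0 2 (.op 4 0 (.focus 0 (.cons [] 0 2 (.op 4 0 (.focus 0 (.cons [] 0 2 (.op 4 0 (.focus 0 (.cons [] 0 2 (.op 4 0 (.focus 0 (.cons [] 0 2 (.op 2 0 (.xor 0 1 (.focus 0 (.xor 1 4 (.focus 0 (.xor 2 7 (.focus 0 (.xor 3 10 (.focus 0 (.xor 4 13 (.focus 0 (.xor 5 16 (.focus 0 (.op 4 7 (.xor 7 0 (.focus 0 (.op 5 0 (.xor 9 0 (.focus 0 (.sym [[1]] (.cons [] 1 1 .triv (.cons [1] 1 0 (.base (nat_lit 2) (.and 0 3 (.dead0 0))) (.cons [5] 1 0 (.base (nat_lit 64) (.op 4 1 (.and 1 0 (.dead0 0)))) (.cons [7] 1 0 (.base (nat_lit 64) (.op 4 1 (.and 1 0 (.dead0 0)))) (.cons [5, 1] 1 0 (.base (nat_lit 64) (.op 4 1 (.and 1 0 (.dead0 0)))) (.cons [7, 1] 1 0 (.base (nat_lit 64) (.op 4 1 (.and 1 0 (.dead0 0)))) (.cons [7, 5, 1] 1 0 (.base (nat_lit 1) (.and 0 3 (.dead0 0))) .nil))))))))))))))))))))))))))) .nil))) .nil))) .nil))) .nil))) .nil))) (.cons [1, 1] 1 0 (.op 5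 0 (.and 1 0 (.dead0 0))) .nil)))
noncomputable def TK : List (List Nat) := [[3, 1, 4, 2, 2, 3, 2, 3, 2, 3, 2, 3, 1, 3, 2, 4], [3, 3, 3, 3, 1, 1, 3, 2, 4, 1, 1, 3, 3, 2, 2]]
noncomputable def TF : List (List Nat) := [[], [1]]
noncomputable def cM : List Lvl := [⟨(nat_lit 2), [[(nat_lit 1)],
  [(nat_lit 3)]], (nat_lit 5)⟩,
  ⟨(nat_lit 18), [[(nat_lit 3), (nat_lit 3), (nat_lit 1)],
  [(nat_lit 1), (nat_lit 3), (nat_lit 2)]], (nat_lit 4)⟩,
  ⟨(nat_lit 9), [[(nat_lit 3), (nat_lit 1), (nat_lit 3)],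
  [(nat_lit 2), (nat_lit 2), (nat_lit 4), (nat_lit 2), (nat_lit 3), (nat_lit 3)]], (nat_lit 4)⟩,
  ⟨(nat_lit 13), [[(nat_lit 1), (nat_lit 4), (nat_lit 1), (nat_lit 1), (nat_lit 1), (nat_lit 1), (nat_lit 1), (nat_lit 1), (nat_lit 1), (nat_lit 3)],
  [(nat_lit 3), (nat_lit 3), (nat_lit 1), (nat_lit 4), (nat_lit 4), (nat_lit 1), (nat_lit 3), (nat_lit 3), (nat_lit 1), (nat_lit 1), (nat_lit 1)]], (nat_lit 4)⟩,
  ⟨(nat_lit 7), [[(nat_lit 4), (nat_lit 1), (nat_lit 1), (nat_lit 4), (nat_lit 2), (nat_lit 2), (nat_lit 4), (nat_lit 4), (nat_lit 1), (nat_lit 1), (nat_lit 1), (nat_lit 1), (nat_lit 1)],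
  [(nat_lit 3), (nat_lit 3), (nat_lit 3), (nat_lit 2), (nat_lit 2), (nat_lit 3), (nat_lit 1), (nat_lit 1), (nat_lit 4), (nat_lit 4), (nat_lit 4), (nat_lit 1), (nat_lit 1)]], (nat_lit 5)⟩,
  ⟨(nat_lit 3), [[(nat_lit 1), (nat_lit 1), (nat_lit 4), (nat_lit 2), (nat_lit 4), (nat_lit 4), (nat_lit 4), (nat_lit 4), (nat_lit 1), (nat_lit 4), (nat_lit 2), (nat_lit 2), (nat_lit 4), (nat_lit 1), (nat_lit 4), (nat_lit 2)],
  [(nat_lit 4), (nat_lit 1), (nat_lit 3), (nat_lit 1), (nat_lit 1), (nat_lit 4), (nat_lit 1), (nat_lit 4), (nat_lit 1), (nat_lit 4), (nat_lit 1), (nat_lit 4), (nat_lit 2), (nat_lit 4), (nat_lit 2), (nat_lit 3)],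
  [(nat_lit 3), (nat_lit 1), (nat_lit 4), (nat_lit 2), (nat_lit 2), (nat_lit 3), (nat_lit 2), (nat_lit 3), (nat_lit 2), (nat_lit 3), (nat_lit 2), (nat_lit 3), (nat_lit 1), (nat_lit 3), (nat_lit 2), (nat_lit 4)]], (nat_lit 2)⟩,
  ⟨(nat_lit 5), [[(nat_lit 4), (nat_lit 1), (nat_lit 3), (nat_lit 1), (nat_lit 1), (nat_lit 4), (nat_lit 1), (nat_lit 4), (nat_lit 1), (nat_lit 4), (nat_lit 1), (nat_lit 4), (nat_lit 2), (nat_lit 4), (nat_lit 2), (nat_lit 3)],
  [(nat_lit 3), (nat_lit 1), (nat_lit 4), (nat_lit 2), (nat_lit 2), (nat_lit 3), (nat_lit 2), (nat_lit 3), (nat_lit 2), (nat_lit 3), (nat_lit 2), (nat_lit 3), (nat_lit 1), (nat_lit 3), (nat_lit 2), (nat_lit 4)],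
  [(nat_lit 4), (nat_lit 4), (nat_lit 4), (nat_lit 1), (nat_lit 3), (nat_lit 3), (nat_lit 1), (nat_lit 1), (nat_lit 1), (nat_lit 4), (nat_lit 4), (nat_lit 1), (nat_lit 1), (nat_lit 4), (nat_lit 1), (nat_lit 1), (nat_lit 1)],
  [(nat_lit 3), (nat_lit 3), (nat_lit 3), (nat_lit 3), (nat_lit 2), (nat_lit 2), (nat_lit 2), (nat_lit 2), (nat_lit 2), (nat_lit 4), (nat_lit 4), (nat_lit 1), (nat_lit 4), (nat_lit 4), (nat_lit 1), (nat_lit 1), (nat_lit 4)]], (nat_lit 1)⟩]
noncomputable def L : Lvl := ⟨(nat_lit 48), [[(nat_lit 5)],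
  [(nat_lit 7)]], (nat_lit 2)⟩
noncomputable def t : List Lvl := [⟨(nat_lit 2), [[(nat_lit 9)],
  [(nat_lit 11)]], (nat_lit 2)⟩,
  ⟨(nat_lit 20), [[(nat_lit 13)],
  [(nat_lit 15)]], (nat_lit 1)⟩]
noncomputable def Yh_0 : List Nat := [(nat_lit 0x7c5ef8c5af8c5f18c5f17c6318be31),
  (nat_lit 0x8be317bdb18c6317c6318bdef7c631),
  (nat_lit 0x842106425073a0e83a0e84210841ce),
  (nat_lit 0x84210841d074a1284a128421084252),
  (nat_lit 0x84210841d094a1283a128421084252),
  (nat_lit 0x84210841d093a1284a128421084252),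
  (nat_lit 0x7bdf18c5b18c5f18c6318bdf17be31),
  (nat_lit 0x84210841d094a1284a12842108424e),
  (nat_lit 0x84210841d094a1284a1284210841d2),
  (nat_lit 0x7bdef8bdaf8c6318c6318c62f7c631),
  (nat_lit 0x8be318bdb18c5f18c5f17c62f7be31),
  (nat_lit 0x7c6318c5af8c5f17c5f18be2f7c631),
  (nat_lit 0x8c6318c5b18c6318c6318c6318c631),
  (nat_lit 0x7be319be318c5ef7c62f7c5f17be31),
  (nat_lit 0x742109421094a1084a107421094250),
  (nat_lit 0x842509421284a1084a1284a1084250),
  (nat_lit 0x7c6319c5f18c5f17be318c5f17c631),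
  (nat_lit 0x8bdef9c6317be317c5f18bdf17be31),
  (nat_lit 0x7c5ef9c5f18c5f18be317bdef8be31),
  (nat_lit 0x7bdef9bdf18c6318bdf18bdf17c631),
  (nat_lit 0x8c5f19c6318c5f18be2f7c6317be31),
  (nat_lit 0x7be319c62f8c5f18c5ef7be317be2f),
  (nat_lit 0x8c5f19c62f8bdf17be318bdef7be31),
  (nat_lit 0x8421094a5284212842528421084250)]
noncomputable def Yh_1 : List Nat := [(nat_lit 0x8421084210a4210842108521084210),
  (nat_lit 0x842108421064210842108521084210),
  (nat_lit 0x7bdef7bdef7bdef7bdef7adef7bdef),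
  (nat_lit 0x842108421484210842108521084210),
  (nat_lit 0x842108421084210a42108521084210),
  (nat_lit 0xa42108421084210842108521084210),
  (nat_lit 0x842108421085210842108521084210),
  (nat_lit 0x842908421084210842108521084210),
  (nat_lit 0x842108421084210842108529084210),
  (nat_lit 0x842108421084210842108521085210),
  (nat_lit 0x842108421084210842108521484210),
  (nat_lit 0x842108421084290842108521084210),
  (nat_lit 0x842108421084210842148521084210),
  (nat_lit 0x842129421084a1284a508421284250),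
  (nat_lit 0x84252942109421084a5094a1084210),
  (nat_lit 0x8425284212842128425284a1284210),
  (nat_lit 0x842108421084a529425284a1084250),
  (nat_lit 0x94a1084a5284a12842108421084212),
  (nat_lit 0x8421084a1094a109425094a1094210),
  (nat_lit 0x842108425084a129421094a1084a12),
  (nat_lit 0x8421094a1094a10942128421284250),
  (nat_lit 0x842509425094a5084a108421284210),
  (nat_lit 0x94a1084a1084a50942108421094250),
  (nat_lit 0x9425084a1284a10942528421084210)]
noncomputable def Yh : List (List Nat) := [Yh_0, Yh_1]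
noncomputable def Ah_0 : List Nat := [(nat_lit 12906732),
  (nat_lit 9642652),
  (nat_lit 5752241),
  (nat_lit 5753041),
  (nat_lit 5757256),
  (nat_lit 5754776),
  (nat_lit 9033861),
  (nat_lit 5755441),
  (nat_lit 5756123),
  (nat_lit 4948036),
  (nat_lit 9397830),
  (nat_lit 13124887),
  (nat_lit 68),
  (nat_lit 7972164),
  (nat_lit 2128152),
  (nat_lit 6927683),
  (nat_lit 9467230),
  (nat_lit 616141),
  (nat_lit 10274214),
  (nat_lit 1288252),
  (nat_lit 13932021),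
  (nat_lit 9983350),
  (nat_lit 852031),
  (nat_lit 1602889)]
noncomputable def Ah_1 : List Nat := [(nat_lit 7138),
  (nat_lit 7137),
  (nat_lit 263),
  (nat_lit 387),
  (nat_lit 291),
  (nat_lit 256),
  (nat_lit 7339),
  (nat_lit 5946),
  (nat_lit 267),
  (nat_lit 3921),
  (nat_lit 1283),
  (nat_lit 2249),
  (nat_lit 4355),
  (nat_lit 4708563),
  (nat_lit 5877059),
  (nat_lit 3041833),
  (nat_lit 10478329),
  (nat_lit 4004177),
  (nat_lit 9890920),
  (nat_lit 8010961),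
  (nat_lit 15599824),
  (nat_lit 8192),
  (nat_lit 16386256),
  (nat_lit 14625072)]
noncomputable def Ah : List (List Nat) := [Ah_0, Ah_1]
noncomputable def wi : List Nat := [(nat_lit 2), (nat_lit 4), (nat_lit 1), (nat_lit 3), (nat_lit 3)]
noncomputable def O₂ : Nat := orb (lapp N0 N1) L.ws (nat_lit 3) (Nat.shiftLeft (nat_lit 1) (nat_lit 4))
noncomputable def X : Tr := (.sym [[1], [3]] (.cons [] 8 0 (.op 4 0 (.focus 0 (.cons [4, 2] 0 0 (.op 4 0 (.focus 0 (.cons [1, 4, 2] 0 0 (.op 4 0 (.focus 0 (.cons [4, 1] 0 0 (.op 4 0 (.focus 0 (.cons [4, 4] 0 0 (.op 4 0 (.focus 0 (.cons [] 0 0 (.base (nat_lit 16) (.op 4 1 (.and 1 0 (.dead0 0)))) .nil))) .nil))) .nil))) .nil))) .nil))) (.cons [1, 1] 1 0 (.op 5 0 (.and 1 0 (.dead0 0))) .nil)))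
noncomputable def XK : List (List Nat) := [[3, 1, 4, 2, 2, 3, 2, 3, 2, 3, 2, 3, 1, 3, 2, 4], [3, 3, 3, 3, 1, 1, 3, 2, 4, 1, 1, 3, 3, 2, 2]]
noncomputable def XF : List (List Nat) := [[], [1]]
noncomputable def Us : List Nat := [(nat_lit 0),
  (nat_lit 0),
  (nat_lit 64),
  (nat_lit 0),
  (nat_lit 0),
  (nat_lit 0),
  (nat_lit 0),
  (nat_lit 0),
  (nat_lit 0),
  (nat_lit 0),
  (nat_lit 0),
  (nat_lit 0),
  (nat_lit 0),
  (nat_lit 0),
  (nat_lit 0),
  (nat_lit 0),
  (nat_lit 0),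
  (nat_lit 0),
  (nat_lit 0),
  (nat_lit 0),
  (nat_lit 32),
  (nat_lit 0),
  (nat_lit 16),
  (nat_lit 0),
  (nat_lit 0),
  (nat_lit 0),
  (nat_lit 0),
  (nat_lit 0),
  (nat_lit 0),
  (nat_lit 0),
  (nat_lit 0),
  (nat_lit 0),
  (nat_lit 0),
  (nat_lit 0),
  (nat_lit 0),
  (nat_lit 0),
  (nat_lit 8),
  (nat_lit 0),
  (nat_lit 4),
  (nat_lit 0),
  (nat_lit 0),
  (nat_lit 0),
  (nat_lit 0),
  (nat_lit 0),
  (nat_lit 0),
  (nat_lit 0),
  (nat_lit 0),
  (nat_lit 0),
  (nat_lit 2),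
  (nat_lit 0),
  (nat_lit 1)]
noncomputable def Z0_0 : Net := Net.nil
noncomputable def Z0_1 : Net := Net.nil
noncomputable def Z0_2 : Net := (Net.cons (nat_lit 1) (nat_lit 20) (Net.cons (nat_lit 2) (nat_lit 18) (Net.cons (nat_lit 4) (nat_lit 3) (Net.cons (nat_lit 2) (nat_lit 3) (Net.cons (nat_lit 1) (nat_lit 20) Net.nil)))))
noncomputable def Z0_3 : Net := (Net.cons (nat_lit 2) (nat_lit 18) (Net.cons (nat_lit 4) (nat_lit 3) (Net.cons (nat_lit 2) (nat_lit 17) (Net.cons (nat_lit 1) (nat_lit 17) Net.nil))))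
noncomputable def Z0 : List Net := [Z0_0, Z0_1, Z0_2, Z0_3]
noncomputable def Z1_0 : Net := (Net.cons (nat_lit 2) (nat_lit 18) (Net.cons (nat_lit 1) (nat_lit 20) Net.nil))
noncomputable def Z1_1 : Net := (Net.cons (nat_lit 1) (nat_lit 20) (Net.cons (nat_lit 4) (nat_lit 6) (Net.cons (nat_lit 2) (nat_lit 18) Net.nil)))
noncomputable def Z1_2 : Net := (Net.cons (nat_lit 2) (nat_lit 18) (Net.cons (nat_lit 4) (nat_lit 6) (Net.cons (nat_lit 2) (nat_lit 18) (Net.cons (nat_lit 1) (nat_lit 20) Net.nil))))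
noncomputable def Z1_3 : Net := (Net.cons (nat_lit 1) (nat_lit 20) Net.nil)
noncomputable def Z1 : List Net := [Z1_0, Z1_1, Z1_2, Z1_3]
noncomputable def ZW : List (List Nat) := [[(nat_lit 6), (nat_lit 7), (nat_lit 7), (nat_lit 6)],
  [(nat_lit 5), (nat_lit 5), (nat_lit 7)],
  [(nat_lit 9), (nat_lit 11), (nat_lit 10), (nat_lit 12), (nat_lit 9)],
  [(nat_lit 12), (nat_lit 12), (nat_lit 12), (nat_lit 9), (nat_lit 9), (nat_lit 11), (nat_lit 11), (nat_lit 10)]]
noncomputable def ZC : List Lvl := [⟨(nat_lit 0), [[(nat_lit 5)],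
  [(nat_lit 7)]], (nat_lit 3)⟩,
  ⟨(nat_lit 1), [[(nat_lit 9)],
  [(nat_lit 11)]], (nat_lit 2)⟩,
  ⟨(nat_lit 2), [[(nat_lit 13)],
  [(nat_lit 15)]], (nat_lit 1)⟩]
noncomputable def UV : List (List Nat) := [[(nat_lit 22), (nat_lit 105)],
  [(nat_lit 37), (nat_lit 90)],
  [(nat_lit 67), (nat_lit 60)]]
noncomputable def Uσ : Net := (Net.cons (nat_lit 4) (nat_lit 6) (Net.cons (nat_lit 2) (nat_lit 3) (Net.cons (nat_lit 1) (nat_lit 5) Net.nil)))
noncomputable def UCs : List (List Nat) := [[(nat_lit 0), (nat_lit 127)],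
  [(nat_lit 0), (nat_lit 127)],
  [(nat_lit 0), (nat_lit 127)],
  [(nat_lit 0), (nat_lit 127)]]
noncomputable def UA : List (List (List Nat)) := [[[1, 0, 0], [0, 1, 0], [0, 0, 1]],
  [[1, 0, 0], [0, 1, 0], [0, 0, 1]],
  [[1, 0, 0], [0, 1, 1], [1, 0, 1]],
  [[1, 1, 0], [1, 1, 1], [0, 1, 0]]]
noncomputable def UD : List (List (List (List Nat))) := [[[[1, 0, 0], [0, 1, 0], [0, 0, 1]]],
 [[[1, 0, 0], [0, 1, 0], [0, 0, 1]]],
 [[[1, 0, 0], [0, 1, 0], [1, 0, 1]],
  [[1, 0, 0], [0, 1, 1], [0, 0, 1]]],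
 [[[1, 0, 0], [0, 1, 1], [0, 0, 1]],
  [[1, 0, 0], [1, 1, 0], [0, 1, 1]],
  [[1, 1, 0], [0, 1, 1], [0, 0, 1]]]]

end CF.Known.Mon.C7
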