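import Cfsg.Agent.Known.Mon.Hom
import Cfsg.Agent.Known.Mon.C7D

/-! A centralizer in `Co0`. -/

set_option autoImplicit false
set_option maxRecDepth 1000000
set_option maxHeartbeats 0

namespace CF.Known.Mon.C7

open Cfsg Subgroup CF.Leech CF.Loc CF.LX CF.Comp CF.Comp.Mat CF.Bt MulAction Spor

theorem chN : ChainGe N0 N1 (2 ^ 6) 6 4 NW (L :: t) 168 :=
  ⟨rfl, by decide, by decide, slp_of_slpOK (by decide +kernel), by decide +kernel, by decide +kernel,
    by decide +kernel⟩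

theorem cert : Cert w 7 6 4 168 336 7 O₂ Ys As Ts N0 N1 NW L t :=
  ⟨rfl, by decide, by decide +kernel, by decide +kernel, by decide +kernel, by decide +kernel,
    by decide +kernel, by decide +kernel, by decide +kernel, ⟨F, ks, by decide +kernel⟩,
    by decide +kernel, chN, by decide +kernel, by decide +kernel,
    ⟨rs, by decide +kernel, by decide +kernel⟩, by decide +kernel, by decide⟩

theorem xM : Exact D0 a2 M.m cM ⊤ := Exact.rebase M.xM card_M24 (by decide +kernel)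

theorem cent : Nat.card 𝐂₁(ev M.m w) ≤ 42 :=
  card_cent_top_le xM (by norm_num) (k := 5) (by norm_num) (fw := TF) (kg := TK) (T := T)
    (by decide +kernel)

theorem stab : Nat.card (stabIn 𝐂₁(Leech.permHom (ev M.m w)) w8) ≤ 336 :=
  card_stab_le w cent (c₂ := 8) (by decide +kernel)

theorem coh : allCo Yh Ah = true := by decide +kernel

theorem mem_O₂ {x : W2} (hx : x ∈ (wDom Ts _ cert.pr).set O₂) :
    ∃ g ∈ 𝐂₁(Leech.permHom (ev M.m w)), g • coEl Yh 0 • w8 = x := by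
  have : coEl Yh 0 • w8 = (wDom Ts _ cert.pr).pt 4 := by
    rw [w8_eq, (coEl_spec coh (i := 0) (by decide)).2.smul_wd]
    exact congrArg Leech.wd (by decide +kernel)
  rw [this]
  exact (chN.reps cert.reps cert.ge).exists_of_mem_orb_pt
    (fun v _ => ev_mem (slp_mem (cert.mem (by norm_num) (by norm_num)) _ _) v) (by norm_num) hx

theorem excl : ∀ x ∈ (wDom Ts _ cert.pr).set O₂, x ∉ orbIn 𝐂₁(Leech.permHom (ev M.m w)) w8 := by
  rintro x hx ⟨g', hg', e'⟩
  obtain ⟨g, hg, e⟩ := mem_O₂ hx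
  have h1 := coEl_spec coh (i := 1) (by decide)
  have h2 := repM_tw (coEl_spec coh (i := 0) (by decide)).2 h1.2 cert.rep0 (by decide +kernel)
  rw [eq_permHom h1.1 (w := wi) (by decide +kernel)] at h2
  have hu : (coEl Yh 0)⁻¹ * (g⁻¹ * g') ∈ Mon := smul_w8_iff.1 (by
    rw [mul_smul, mul_smul, e', ← e, inv_smul_smul, inv_smul_smul])
  refine not_conj_top xM (by norm_num) (k := 5) (by norm_num) (a := w) (b := wi) (fw := XF)
    (kg := XK) (T := X) (by decide +kernel) (monPerm ⟨_, hu⟩) ?_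
  rw [← monPerm_permHom (ev M.m w), ← monPerm_permHom (ev M.m wi), ← map_inv, ← map_mul, ← map_mul]
  have h3 : (coEl Yh 0)⁻¹ * (g⁻¹ * g') * Leech.permHom (ev M.m w) * ((coEl Yh 0)⁻¹ * (g⁻¹ * g'))⁻¹ =
      (coEl Yh 0)⁻¹ * (Leech.permHom (ev M.m w) * coEl Yh 0) := by
    rw [mul_assoc _ (g⁻¹ * g'), mem_c1.1 (mul_mem (inv_mem hg) hg')]; group
  rcases h2 with h2 | h2
  · exact congrArg monPerm (Subtype.ext (h3.trans (by rw [← h2, inv_mul_cancel_left])))
  · rw [← one_mul (monPerm ⟨_, permHom_mem (ev M.m wi)⟩), ← (mem_Sg' negCo_mem_Mon).1 negCo_mem_Sg,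
      ← map_mul]
    refine congrArg monPerm (Subtype.ext (h3.trans ?_))
    rw [eq_inv_mul_of_mul_eq h2.symm, negCo_inv, ← mul_assoc, negCo_comm, mul_assoc,
      inv_mul_cancel_left]
    rfl

theorem main : CD (Leech.permHom (ev M.m w)) 7 3 336 ∧
    clo (coEl Ys) (gensW 4) = 𝐂₁(Leech.permHom (ev M.m w)) ∧
    Nat.card 𝐂₁(Leech.permHom (ev M.m w)) = 168 * (2 * 7) :=
  cert.main rfl (by norm_num) (by norm_num) (by decide) stab excl

theorem ncard_T4 : (T4 (Leech.permHom (ev M.m w))).ncard = 14 := by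
  rw [Set.Subset.antisymm (cert.T4_sub (by decide)) fun x hx => ?_,
    Dom.ncard_set_of_lt _ (by norm_num) (by decide +kernel)]
  · decide +kernel
  refine ⟨(cert.fix_eq (by decide)).ge (Dom.mem_set_full.2
    ((Dom.mem_set.1 hx).imp fun _ h => ⟨h.1, h.2.2⟩)), ?_⟩
  rw [Dom.set_lor] at hx
  rcases hx with hx | hx
  · obtain ⟨g, -, rfl⟩ := (chN.reps cert.reps cert.ge).lvl_sub (H := ⊤) (by decide)
      (fun _ _ => trivial) hx
    exact ⟨g • e8 none, by rw [co_nm, nm_e8], by rw [cert.pt8, red_smul, w8]⟩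
  · obtain ⟨g, -, rfl⟩ := mem_O₂ hx
    exact ⟨g • coEl Yh 0 • e8 none, by rw [co_nm, co_nm, nm_e8], by rw [red_smul, red_smul, w8]⟩

theorem chZ : ChainGe Z0 Z1 7 3 4 ZW ZC 168 :=
  ⟨rfl, by decide, by decide, slp_of_slpOK (by decide +kernel), by decide +kernel, by decide +kernel,
    by decide +kernel⟩
theorem linU_a : linAll (tabP 2) 7 3 UV UA Z0 UCs 4 = true := by decide +kernel
theorem linU : LinOK (tabP 2) 7 3 4 UV UA Z0 :=
  ⟨⟨Uσ, by decide +kernel⟩, by decide +kernel, by decide +kernel, rfl,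
    UCs, by decide +kernel, rfl, linAll_iff.1 linU_a⟩
theorem slU : allFrom (slAt (tabP 2) 3 UA UD) 0 4 = true := by decide +kernel

theorem hom : ∃ ψ : 𝐂₁(Leech.permHom (ev M.m w)) →* Matrix.SpecialLinearGroup (Fin 3) (ZMod 2),
    Function.Surjective ψ ∧ ∀ x, ψ x = 1 ↔ (x : Co0) ∈ KK (Leech.permHom (ev M.m w)) :=
  have hT := tabP_ok (ZMod 2) 2 (by norm_num)
  cert.exists_surj (by norm_num) (by norm_num) main.2.1 main.2.2 (Ts' := Us) (by decide +kernel)
    (by decide +kernel) (by decide +kernel) chZ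
    (linU.hasReps hT (Equiv.refl _) (Cfsg.slToMat 3 (ZMod 2)) fun i hi =>
      ⟨⟨_, (hT.det_eq _ (allFrom_zero.1 slU i hi)).trans hT.one⟩, rfl⟩)
    (by simpa [Fin.prod_univ_succ] using CF.Classical.card_SL_fin (F := ZMod 2) 3 (by norm_num))

end CF.Known.Mon.C7
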