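import Cfsg.Agent.Known.Mon.C7
import Cfsg.Agent.Held.IdB
import Cfsg.Agent.XT.Pre

/-! Groups of Monster type: the centralizer of an element of order seven is `7 × He`. -/

set_option autoImplicit false
set_option maxRecDepth 100000

namespace CF.Held

open Cfsg Subgroup CF.Loc CF.Even CF.LX CF.Comp HM

variable {G : Type*} [Group G] [Finite G]

/-- only three conjugates of `z` lie in `Q ∩ Q ^ g` -/
def Star (Q : Subgroup G) (z : G) : Prop := ∀ g, g * z * g⁻¹ ∈ Q → g * z * g⁻¹ ≠ z → ∀ x ∈ Q, x ∈ cj[g] Q →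
  IsConj z x → x = z ∨ x = g * z * g⁻¹ ∨ x = z * (g * z * g⁻¹)

theorem Ctx.star {φ : HM →* G} (h : Ctx φ) (st : Star 𝐎[2](𝐂₁(φ z)) (φ z)) (k : Dz φ e25) :
    (∃ y, Y φ y true) ∧ Dz φ e14 := by
  obtain ⟨y, a | a⟩ := h.exists_y1 k
  · have m : ∀ {a}, In σU a → φ a ∈ 𝐎[2](𝐂₁(φ z)) := fun ha => le_pCoreOf
      ((isPGroup_T.to_le fun a ha => mem_T.2 (U_comm a (mem_U.1 ha)).2.1).map φ)
      (by rintro _ ⟨a, -, rfl⟩; exact mem_c1.2 (Cj.of' (z_comm a)).comm) (fun g hg => by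
        obtain ⟨a, rfl⟩ := h.cen g (mem_c1.1 hg)
        exact le_normalizer_map φ (mem_map_of_mem φ (norm_U trivial))) (mem_map_of_mem φ (mem_U.2 ha))
    have := st y (a.a1 ▸ m (by decide +kernel)) (a.a1 ▸ h.inj.ne (by decide +kernel)) _
      (m (a := e45) (by decide +kernel)) (a.f ▸ conj_mem_cj y (m (by decide +kernel))) (isConj_iff.2
        ((dz_cls (by decide +kernel)).2 ((show e25 = rep (cls e45) by decide +kernel) ▸ k)))
    rw [a.a1, ← map_mul, h.inj.eq_iff, h.inj.eq_iff, h.inj.eq_iff] at this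
    exact absurd this (by decide +kernel)
  · exact ⟨⟨y, a⟩, a.b1.dz.2 (((a.act2 (w := e34) (by decide +kernel)).hop (r := e24) (s := r8)
      (by decide +kernel)).2 (((a.act2 (w := e35) (by decide +kernel)).hop (by decide +kernel)).1 k))⟩

theorem he_of_star {Q : Subgroup G} {z : G} (lq : LQ Q z) (c : Nat.card Q = 2 ^ 7) {π : 𝐂₁(z) →* L3}
    (πs : Function.Surjective π) (πk : ∀ x, π x = 1 ↔ x.1 ∈ Q) (nw : ∃ g, g * z * g⁻¹ ∈ Q ∧ g * z * g⁻¹ ≠ z)
    (st : Star Q z) : Nonempty (G ≃* Spor.He) := by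
  obtain ⟨g, g1, g2⟩ := nw
  have pl : PlusT Q 3 := by
    by_contra k
    obtain ⟨μ, c1, -⟩ := XT.exists_act lq (MulEquiv.refl Q)
    have := card_subgroup_dvd_card μ.range
    rw [card_eq_card_quotient_mul_card_subgroup π.ker, Nat.card_congr
      (QuotientGroup.quotientKerEquivOfSurjective _ πs).toEquiv, show π.ker = Q.subgroupOf _ from ext πk,
      Nat.card_congr (subgroupOfEquivOfLe lq.le_c1).toEquiv, c, card_L3] at c1
    rw [(XT.card_aut lq.isExtraspecial (n := 2) c).2 k, show Nat.card μ.range = 10752 by omega] at this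
    exact absurd this (by decide)
  obtain ⟨f⟩ := equiv_of_plusT_iff QX.extra lq.isExtraspecial (n := 3) QX.card c (iff_of_true QX.plus pl)
  have r : (Q.subtype.comp f.toMonoidHom).range = Q := by
    rw [MonoidHom.range_comp, MonoidHom.range_eq_top.2 f.surjective, ← MonoidHom.range_eq_map, range_subtype]
  have inj : Function.Injective (Q.subtype.comp f.toMonoidHom) := Subtype.val_injective.comp f.injective
  have ex := QX.ex.map (f := Q.subtype.comp f.toMonoidHom) fun x _ => (injective_iff_map_eq_one _).1 inj x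
  rw [← MonoidHom.range_eq_map, r] at ex
  obtain ⟨ψ, x, s, j, h⟩ := Fr.exists_fs (π := π) ⟨inj, r.symm ▸ lq, lq.eq_of ex, πs, r.symm ▸ πk⟩
  obtain rfl : Q = ψ.range := eq_of_le_of_card_ge (fun a ha => (h.ker ⟨a, lq.le_c1 ha⟩).1 ((πk _).2 ha))
    (h.card_Q.trans c.symm).le
  obtain rfl : j = 0 := by
    by_contra hj
    have k := h.pair g1 g2
    have := card_le_of_le (show (QX.UQ j).map ψ ≤ V4 z (g * z * g⁻¹) from fun u hu => k.mem_V.2 <|
      or_iff_not_imp_left.2 fun u1 => st g g1 g2 u (map_le_range _ _ hu) (mem_cj.2 (map_le_range _ _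
        (conj_mem_of_mem_normalizer' (h.b4 hj (h.b1 hj g1)) hu)))
        ((h.b4' hj g1 g2 hu u1).elim fun k e => isConj_iff.2 ⟨k, e.2⟩))
    rw [k.klein.card_four, card_map_of_injective h.inj, QX.card_UQ] at this
    omega
  obtain ⟨e⟩ := h.equiv g1 g2
  obtain ⟨k, q⟩ := exists_ctx lq.ord e
  obtain ⟨e'⟩ := exists_equiv (s := toSL 17043537 17043537 (by decide +kernel)) (by decide +kernel)
  have := tv_main (n := 3) (z := toSL 17043537 17043537 (by decide +kernel)) (by decide +kernel) (by decide)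
  have o : ψ.range = 𝐎[2](𝐂₁(z)) := eq_of_le_of_card_ge lq.le_core
    ((LQ.transfer lq.ord this.1 (e.symm.trans e')).2.1.trans (this.2.1.trans c.symm)).le
  have hm := mem_c1.2 (lq.zc g1)
  rw [o] at st g1
  obtain ⟨a, ha⟩ := e.surjective ⟨_, hm⟩
  have d := k.of_core (N := (pCore 2 _).comap e.toMonoidHom) ((isPGroup_pCore 2 _).comap_of_injective _ e.injective)
    (a := a) (mem_comap.2 (by
      rw [MulEquiv.coe_toMonoidHom, ha]; exact (mem_map_iff_mem (subtype_injective _)).1 g1))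
    ⟨g, (congrArg (g * · * g⁻¹) q).trans (congrArg Subtype.val ha).symm⟩
    fun p => g2 (by rw [← show _ = g * z * g⁻¹ from congrArg Subtype.val ha, p, q])
  rw [← show ((𝐂₁(z)).subtype.comp e.toMonoidHom) HM.z = z from q] at st
  generalize (𝐂₁(z)).subtype.comp e.toMonoidHom = φ at k st d
  have s' : Star 𝐎[2](𝐂₁((φ.comp γ) HM.z)) ((φ.comp γ) HM.z) := by rwa [MonoidHom.comp_apply, γ_z]
  have a1 : Dz (φ.comp γ) e25 ↔ Dz φ e14 := dz_gam.trans (by rw [show γ e25 = e14 by decide +kernel])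
  have a2 : Dz (φ.comp γ) e14 ↔ Dz φ e25 := dz_gam.trans (by rw [show γ e14 = e25 by decide +kernel])
  have d2 : Dz φ e25 := d.elim (fun d => a2.1 (k.gam.star s' (a1.2 d)).2) id
  obtain ⟨⟨y₂, k2⟩, d1⟩ := k.star st d2
  obtain ⟨⟨y₁, k1⟩, -⟩ := k.gam.star s' (a1.2 d1)
  obtain ⟨y, p⟩ := k.exists_yy k1 k2
  haveI : Nontrivial G := ⟨z, 1, lq.z_ne⟩
  exact equiv_H (p.top k) (p.rels k okH)

end CF.Held

namespace CF.Known.Mon

open Cfsg Subgroup CF.Leech CF.Loc CF.Even CF.LX CF.Comp CF.Comp.Mat CF.Bt MulAction Spor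

/-- the images of the basis are those under a sign change -/
noncomputable def sgnIs (c : ℕ) (Y : List ℕ) : Bool := allLt 24 fun q => allLt 24 fun i =>
  Nat.beq (ap (nth 0 Y q) i) (if c.testBit i then 32 - ap (nth 0 basL q) i else ap (nth 0 basL q) i)

theorem mem_Sg_of {g : Co0} {c : ℕ} {Y : List ℕ} (h : ∀ q, ((g • bv q : LL) : V) = vec (nth 0 Y (idx q)))
    (hc : isCode c = true) (k : sgnIs c Y = true) : g ∈ Sg :=
  mem_Sg.2 ⟨_, ofMask_mem_CS hc, co_ext_bv fun q => Subtype.ext (funext fun p => by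
    have := Leech.beq_iff.1 (allLt_iff.1 (allLt_iff.1 k _ (idx_lt q)) _ (idx_lt p))
    have e := mono_apply M24.one_mem (ofMask_mem_CS hc) (bv q) p
    have := ap_lt32 (nth 0 basL (idx q)) (idx p)
    simp only [Equiv.Perm.coe_one, id, mem_ofMask] at e
    rw [h, e, bv_coe, Leech.vec, Leech.vec]
    split_ifs at * <;> omega)⟩

theorem eq_of_pm {b g : Co0} (hb : Odd (orderOf b)) (h : g * b * g⁻¹ = b⁻¹ ∨ g * b * g⁻¹ = negCo * b⁻¹) :
    g * b * g⁻¹ = b⁻¹ := h.resolve_right fun e => by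
  have := congrArg (· ^ orderOf b) e
  simp only [conj_pow, neg_mul_pow _ hb, inv_pow, pow_orderOf_eq_one, mul_one, mul_inv_cancel, inv_one] at this
  exact negCo_ne_one this.symm

namespace C7

noncomputable def Yk_0 : List Nat := [(nat_lit 0x8be318c5ef7c5ef7bdef7b6318c5f1),
  (nat_lit 0x8425093a107421284a108421084a50),
  (nat_lit 0x6c5ef7c6319be2f8be317c5ef7be2d),
  (nat_lit 0x8be318c5f16c5f17c62f7be317c631),
  (nat_lit 0x8be318bdef7c5f17c5f17be6f8c631),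
  (nat_lit 0x8be2f8bdef7c5f17be2f8be318ce31),
  (nat_lit 0x8c6318be2f6c5f18bdef7be318c631),
  (nat_lit 0x8421293a10742107421083a1084a12),
  (nat_lit 0x8be318bdf17bdf18c5ef8b6318c631),
  (nat_lit 0x7be318bdef6c5f17c5ef8be318c5ef),
  (nat_lit 0x94252941d074210842108421094a10),
  (nat_lit 0x942109420e741d084a1083a1084a10),
  (nat_lit 0x84250941ce742128421083a1084212),
  (nat_lit 0x942107421074210841d0849d094212),
  (nat_lit 0x8bdf17bdef7c62f7c5ef7bdf18c5f3),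
  (nat_lit 0x94212841d07421274210841d084212),
  (nat_lit 0x942108420e741d2841d28421084212),
  (nat_lit 0x9c62f7be317c5f17be2f8c6317bdf1),
  (nat_lit 0x942128420e84a10841d08425284212),
  (nat_lit 0x9421083a1074a12841d084250841d0),
  (nat_lit 0x8c6317c5ef7c5ef8bdf18c62f8bdf3),
  (nat_lit 0x949d0842107420e8421084210941d2),
  (nat_lit 0x942108424e841d08421094a5084212),
  (nat_lit 0x8c5f17bdef7c5f17be318c6317be33)]
noncomputable def Yk_1 : List Nat := [(nat_lit 0x64210842108421084210842108420c),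
  (nat_lit 0x642108421084210842108421084214),
  (nat_lit 0xac5f18c5ef8c5f18c5ef7bdef7be31),
  (nat_lit 0x642108421084210842108429084210),
  (nat_lit 0x6420c8421084210842108421084210),
  (nat_lit 0x642108421084210642108421084210),
  (nat_lit 0x642108429084210842108421084210),
  (nat_lit 0x642108421484210842108421084210),
  (nat_lit 0x642108421084210842108521084210),
  (nat_lit 0x642108321084210842108421084210),
  (nat_lit 0x642108421084210842108421484210),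
  (nat_lit 0x64210842108421084210a421084210),
  (nat_lit 0x642108421084210842148421084210),
  (nat_lit 0x842507425073a5083a108421284210),
  (nat_lit 0x742507421283a5084210842109420e),
  (nat_lit 0x74250842128425083a128425284210),
  (nat_lit 0x7420e842507425083a129421084210),
  (nat_lit 0x84210842508420e73a5084250849d0),
  (nat_lit 0x73a0e842508425084250842109420e),
  (nat_lit 0x7420e83a508420e83a1084210941d0),
  (nat_lit 0x8420e742507421084252842128420e),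
  (nat_lit 0x842107425283a108421094212841ce),
  (nat_lit 0x83a0e8425074210742509421084a10),
  (nat_lit 0x8420e8425284250742528425084210)]
noncomputable def Yk_2 : List Nat := [(nat_lit 0x7c5f37bdef7bdf18c62f8c5f17bdef),
  (nat_lit 0x8421084a10841ce94a1084a1094a10),
  (nat_lit 0x8420e9425094a527421083a0e84252),
  (nat_lit 0x7c6317c6317bdef9c62f8c5f17c5ef),
  (nat_lit 0x8c5f17bdf17bdef8c62f8cdf18c5f1),
  (nat_lit 0x8c5f17c5ef7bdf19c5ef8c6318c5ef),
  (nat_lit 0x7c5f17be2f7bdaf8c62f7c6318c5ef),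
  (nat_lit 0x7bdf37c5f17bdef8c62f8c6318c62f),
  (nat_lit 0x8c6337c5ef7c5ef8c62f7c5f18c5ef),
  (nat_lit 0x84210841d0741d094a5084a108420e),
  (nat_lit 0x8421274210841d094a1284a1284210),
  (nat_lit 0x84a12841d0839ce94a108421084210),
  (nat_lit 0x7c5f18c5ef7bdef8c6318c5f38c5ef),
  (nat_lit 0x7be2f6bdef8bdef7bdf17c6317c5ef),
  (nat_lit 0x74212741d083a1083a1084a108420e),
  (nat_lit 0x7be317c5f18bdef8be318c6337c5ef),
  (nat_lit 0x84210839d0839ce8421084212849d0),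
  (nat_lit 0x8bdef7c6317bdef8bdef7be317bdaf),
  (nat_lit 0x8421283a10739d083a1084a10841d0),
  (nat_lit 0x8bdef7bdf17bdaf8be2f7c5f18bdef),
  (nat_lit 0x8421073a1073a107421284212841d0),
  (nat_lit 0x7c5f16bdf17bdef7bdf17be317be2f),
  (nat_lit 0x9421083a1073a0e841d084250841d0),
  (nat_lit 0x842108421273a1083a1084252849d0)]
noncomputable def Yk : List (List Nat) := [Yk_0, Yk_1, Yk_2]
noncomputable def Ak_0 : List Nat := [(nat_lit 12719647),
  (nat_lit 14521640),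
  (nat_lit 10675836),
  (nat_lit 13449860),
  (nat_lit 8540191),
  (nat_lit 4596903),
  (nat_lit 401702),
  (nat_lit 5391280),
  (nat_lit 6017398),
  (nat_lit 10675837),
  (nat_lit 13992544),
  (nat_lit 10307675),
  (nat_lit 4095018),
  (nat_lit 5788930),
  (nat_lit 14001117),
  (nat_lit 15124939),
  (nat_lit 6740387),
  (nat_lit 3912359),
  (nat_lit 1094681),
  (nat_lit 1623480),
  (nat_lit 9570639),
  (nat_lit 4455809),
  (nat_lit 4798730),
  (nat_lit 1743460)]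
noncomputable def Ak_1 : List Nat := [(nat_lit 1),
  (nat_lit 2),
  (nat_lit 9217463),
  (nat_lit 11),
  (nat_lit 16),
  (nat_lit 32),
  (nat_lit 67),
  (nat_lit 131),
  (nat_lit 259),
  (nat_lit 512),
  (nat_lit 1027),
  (nat_lit 2051),
  (nat_lit 4099),
  (nat_lit 15283),
  (nat_lit 18984),
  (nat_lit 35704),
  (nat_lit 70026),
  (nat_lit 137000),
  (nat_lit 263651),
  (nat_lit 529688),
  (nat_lit 1052018),
  (nat_lit 2100416),
  (nat_lit 4202272),
  (nat_lit 8388659)]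
noncomputable def Ak_2 : List Nat := [(nat_lit 11243556),
  (nat_lit 2422179),
  (nat_lit 9432824),
  (nat_lit 13089716),
  (nat_lit 4222591),
  (nat_lit 10591821),
  (nat_lit 614007),
  (nat_lit 6460943),
  (nat_lit 5668510),
  (nat_lit 13120056),
  (nat_lit 14171275),
  (nat_lit 15865818),
  (nat_lit 5721359),
  (nat_lit 10342212),
  (nat_lit 4753979),
  (nat_lit 4441589),
  (nat_lit 14530489),
  (nat_lit 15646332),
  (nat_lit 3549345),
  (nat_lit 13126814),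
  (nat_lit 15604947),
  (nat_lit 3525366),
  (nat_lit 1622664),
  (nat_lit 16021475)]
noncomputable def Ak : List (List Nat) := [Ak_0, Ak_1, Ak_2]

local notation "b₇" => Leech.permHom (ev M.m w)

theorem cok : allCo Yk Ak = true := by decide +kernel

theorem eps : coEl Yk 1 ∈ Sg :=
  mem_Sg_of (coEl_spec cok (i := 1) (by decide)).1 (c := 14474243) (by decide +kernel) (by decide +kernel)

theorem star {x : W2} (hx : x ∈ T4 b₇) (h : coEl Yk 1 • x = x ∨ coEl Yk 1 • x = w8 + x) : x = w8 := by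
  obtain ⟨k, h1, h2, rfl⟩ := Dom.mem_set.1 (cert.T4_sub (by decide) hx)
  have : allLt 64 (fun k => !(Nat.lor (L.orb (lapp N0 N1)) O₂).testBit k || Nat.beq (column Ts k) 3 ||
    (anyLt 24 fun p => (xorSel Ak_1 (column Ts k)).testBit p != (column Ts k).testBit p) &&
    anyLt 24 fun p => (xorSel Ak_1 (column Ts k)).testBit p != (Nat.xor 3 (column Ts k)).testBit p) = true := by
    decide +kernel
  have := allLt_iff.1 this k h1
  change _ • Leech.wd _ = Leech.wd _ ∨ _ • Leech.wd _ = w8 + Leech.wd _ at h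
  rw [(coEl_spec cok (i := 1) (by decide)).2.smul_wd, w8_eq, ← wd_xor, wd_eq_iff, wd_eq_iff] at h
  simp only [h2, Bool.not_true, Bool.false_or, Bool.or_eq_true, Bool.and_eq_true, anyLt_iff, bne_iff_ne] at this
  rcases this with e | ⟨⟨p, a, e⟩, q, a', e'⟩
  · exact w8_eq ▸ congrArg Leech.wd (Leech.beq_iff.1 e)
  · exact (h.elim (fun h => e (h p a)) fun h => e' (h q a')).elim

theorem wi_eq : Leech.permHom (ev M.m wi) = b₇⁻¹ := by
  rw [← map_inv, ← ev_winv]; rfl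

theorem tau : coEl Yk 0 * coEl Yk 1 * (coEl Yk 0)⁻¹ * b₇ * (coEl Yk 0 * coEl Yk 1 * (coEl Yk 0)⁻¹)⁻¹ = b₇⁻¹ := by
  have h1 := coEl_spec coh (i := 1) (by decide)
  have a := coEl_spec cok (i := 2) (by decide)
  have h2 := repM_tw a.2 cert.rep0 h1.2 (by decide +kernel)
  have h3 := repM_tw (coEl_spec cok (i := 0) (by decide)).2 (coEl_spec cok (i := 1) (by decide)).2 a.2
    (by decide +kernel)
  rw [eq_permHom h1.1 (w := wi) (by decide +kernel), wi_eq] at h2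
  refine eq_of_pm (main.1.ord.symm ▸ by decide) ?_
  rcases h3 with h3 | h3 <;> rw [h3]
  · rwa [mul_inv_cancel_right, mul_inv_eq_iff_eq_mul, mul_inv_eq_iff_eq_mul, mul_assoc]
  · rw [mul_assoc negCo, mul_inv_cancel_right, ← negCo_comm, _root_.mul_inv_rev, mul_assoc _ negCo, ← negCo_comm b₇,
      ← mul_assoc, ← mul_assoc, mul_inv_cancel_right]
    rwa [mul_inv_eq_iff_eq_mul, mul_inv_eq_iff_eq_mul, mul_assoc]

theorem nu : ∃ g : Co0, g * b₇ * g⁻¹ = b₇ ^ 2 := by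
  refine ⟨Leech.permHom (ev M.m [3, 3, 3, 3, 3, 1, 3, 3, 2, 4, 1, 1, 1, 1, 3, 3, 1, 1]), ?_⟩
  rw [← map_inv, ← map_mul, ← map_mul, conj_of_sameW M.r0 (k := 5) (by norm_num) xM.faithful (b := lapp w w)
    (by decide +kernel), ev_lapp, map_mul, sq]

theorem no_inv {g : Co0} (hg : g ∈ Mon) : g * b₇ * g⁻¹ ≠ b₇⁻¹ := fun e => by
  refine not_conj_top xM (by norm_num) (k := 5) (by norm_num) (a := w) (b := wi) (fw := XF)
    (kg := XK) (T := X) (by decide +kernel) (monPerm ⟨_, hg⟩) ?_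
  rw [← monPerm_permHom (ev M.m w), ← monPerm_permHom (ev M.m wi), ← map_inv, ← map_mul, ← map_mul]
  exact congrArg monPerm (Subtype.ext (e.trans wi_eq.symm))

end C7

variable {G : Type*} [Group G] [Finite G] {Q P : Subgroup G} {z s y : G} {M : MT Q z} {b : Co0}

namespace MT

omit [Finite G] in
theorem dj (M : MT Q z) (hy : Odd (orderOf y)) {x : G} (a : x ∈ Q) (b : x ∈ zpowers y) : x = 1 := by
  obtain ⟨k, e⟩ := M.lq.isPGroup ⟨x, a⟩
  exact eq_one_of_odd hy b (congrArg Subtype.val e)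

/-- elements of order seven with the same image are conjugate -/
theorem Rp.conj7 (r : M.Rp y b) (o : orderOf y = 7) {x : G} (r' : M.Rp x b) (e : x ^ 7 = 1) :
    ∃ k ∈ 𝐂₁(z), k * x * k⁻¹ = y := by
  haveI := Fact.mk (by norm_num : Nat.Prime 7)
  have ho : Odd (orderOf y) := o ▸ by decide
  have hn : zpowers y ≤ 𝐍(Q) := zpowers_le.2 (M.lq.nor r.mem)
  have c := card_sup_of_inf_eq_bot hn (eq_bot_iff.2 fun x h => M.dj ho h.1 h.2)
  have c' := card_inf_mul_relIndex (zpowers y) (Q ⊔ zpowers y)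
  rw [inf_of_le_left le_sup_right, c, M.card, Nat.card_zpowers, o] at c'
  obtain ⟨k, hk, l⟩ := (isSyl_of_not_dvd_relIndex (p := 7) (isPGroup_zpowers (k := 1) (by simp [← o]))
    (le_sup_right (a := Q)) (by omega)).exists_cj_le (isPGroup_zpowers (k := 1) e) (zpowers_le.2
      ((mul_mem_cancel_left (inv_mem (mem_sup_right (mem_zpowers y)))).1 (mem_sup_left (r.inv_mul_mem r'))))
  obtain ⟨q, hq, _, hi, rfl⟩ := (mem_sup_of_le_normalizer hn).1 hk
  obtain ⟨i, rfl⟩ := mem_powers_iff_mem_zpowers.2 hi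
  have rk := (Rp.of_mem_Q hq).mul (r.pow i)
  exact ⟨_, rk.mem, mul_inv_eq_one.1 (M.dj ho (((rk.conj r').mul r.inv).mem_Q_iff.2 (.inl (by group)))
    (mul_mem (l (conj_mem_cj _ (mem_zpowers x))) (inv_mem (mem_zpowers y))))⟩

theorem exists_invol (h : Pair Q P z s) (ls : M.lam s = w8) {g : Co0} (hg : g ∈ Sg) : ∃ x, x * x = 1 ∧ M.Rp x g := by
  obtain ⟨a, c⟩ := M.pre_B h ls
  obtain ⟨x, hx, r⟩ := M.mem_pre.1 (a.ge hg)
  refine (h.r.sq x hx.1).elim (⟨x, ·, r⟩) fun e => ?_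
  obtain ⟨q, q1, q2, k⟩ := h.r.exists_move (h.V_le h.tV) inf_le_right hx.1 fun k => h.r.z_ne (e.symm.trans (h.E_sq k))
  have c' := h.r.card_mul_card (h.V_le h.tV) inf_le_right
  rw [h.card_eq, M.card, c] at c'
  have := (eq_of_le_of_card_ge (le_inf inf_le_right (isElemAb_le_centralizer h.E_elemAb)) (by omega)).ge ⟨q1, q2⟩
  refine ⟨q * x, ?_, one_mul g ▸ (Rp.of_mem_Q this.1).mul r⟩
  rw [inv_eq_of_mul_eq_one_left (h.E_sq this)] at k
  rw [← mul_assoc, k, mul_assoc, e, h.r.zz]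

theorem star (M : MT Q z) (o : orderOf y = 7) (yz : y * z = z * y) {g x : G} (gy : g * y = y * g)
    (g1 : g * z * g⁻¹ ∈ Q) (g2 : g * z * g⁻¹ ≠ z) (x1 : x ∈ Q) (x2 : x ∈ cj[g] Q) (xy : x * y = y * x)
    (hc : IsConj z x) : x = z ∨ x = g * z * g⁻¹ ∨ x = z * (g * z * g⁻¹) := by
  have h := M.pair g2 g1
  obtain ⟨v, a, b⟩ := M.type4 h
  obtain ⟨k, ls⟩ := M.exists_twist a b
  obtain ⟨N, ls, y', r, o', e⟩ := exists_gen g1 ls (by norm_num) (by norm_num) ((Nat.card_zpowers y).trans o)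
    (zpowers_le.2 ⟨mem_c1.2 yz, mem_c1.2 (conj_eq_iff.1 (by
      rw [conj_mul_conj, conj_mul_conj, conj_eq_iff.2 yz, conj_eq_iff.2 gy.symm,
        conj_eq_iff.2 (Commute.inv_right gy.symm)]))⟩) (permHom_mem _)
    C7.main.1.ord (m := 4096 * 34974720) card_Mon (by norm_num)
  refine or_iff_not_imp_left.2 fun xz => (N.lam_eq_iff x1 g1).1 (ls.symm ▸ ?_)
  obtain ⟨u, hu, r'⟩ := N.mem_pre.1 ((N.pre_B h ls).1.ge C7.eps)
  refine C7.star ⟨(r.comm_iff (o' ▸ by decide) x1).1 (((zpowers_le.2 (mem_c1.2 xy.symm) : _ ≤ 𝐂₁(x))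
    (e ▸ mem_zpowers y') x rfl)), (N.conj_iff x1).1 ⟨hc, xz⟩⟩ ?_
  rw [← r'.lam x1, ← ls, ← N.lam_mul _ g1 _ x1]
  exact (h.r.conj_cases hu.1 x2).imp (congrArg _) (congrArg _)

omit [Finite G] in
theorem lift (M : MT Q z) (hy : Odd (orderOf y)) {x q : G} (xx : x * x = 1) (hq : q ∈ Q) (qy : q * y = y * q)
    (e : x * q⁻¹ ∈ zpowers y) : x = q := by
  have c : q ∈ 𝐂(zpowers y) := centralizer_zpowers y ▸ mem_c1.2 qy
  have h2 := c _ e
  rw [inv_mul_cancel_right, ← inv_mul_eq_iff_eq_mul] at h2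
  have : x * q⁻¹ * (x * q⁻¹) = (q * q)⁻¹ := by
    rw [mul_assoc, ← mul_assoc q⁻¹, h2, ← mul_assoc, ← mul_assoc, xx]; group
  exact mul_inv_eq_one.1 (eq_one_of_odd hy e (k := 1) (by
    rw [pow_one, sq]; exact M.dj hy (this ▸ inv_mem (mul_mem hq hq)) (mul_mem e e)))

local notation "b₇" => Leech.permHom (ev Leech.M.m C7.w)

theorem he (hs : s ∈ Q) (ls : M.lam s = w8) (r : M.Rp y b₇) (hp : orderOf y = 7)
    [hn : ((zpowers y).subgroupOf 𝐂(zpowers y)).Normal] :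
    Nonempty (𝐂(zpowers y) ⧸ (zpowers y).subgroupOf 𝐂(zpowers y) ≃* He) := by
  obtain ⟨ψ, ψs, ψk⟩ := C7.hom
  have D := C7.main.1
  generalize b₇ = b at *
  have E := M.lq
  have hy : Odd (orderOf y) := hp ▸ by decide
  have hb : Odd (orderOf b) := D.ord ▸ by decide
  have mH : ∀ {x}, x ∈ 𝐂(zpowers y) ↔ x * y = y * x := by rw [centralizer_zpowers]; exact mem_c1
  have hz : z ∈ 𝐂(zpowers y) := mH.2 r.comm.symm
  set f := QuotientGroup.mk' ((zpowers y).subgroupOf 𝐂(zpowers y))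
  have hf : Function.Surjective f := QuotientGroup.mk'_surjective _
  have f1 : ∀ x, f x = 1 ↔ (x : G) ∈ zpowers y := fun x => QuotientGroup.eq_one_iff x
  have fe : ∀ x x', f x = f x' ↔ (x : G) * (x' : G)⁻¹ ∈ zpowers y := fun x x' => by
    rw [← mul_inv_eq_one, ← map_inv, ← map_mul, f1]; rfl
  have fQ : ∀ x x' : 𝐂(zpowers y), (x : G) ∈ Q → (x' : G) ∈ Q → f x = f x' → x = x' :=
    fun x x' a b e => Subtype.ext (mul_inv_eq_one.1 (M.dj hy (mul_mem a (inv_mem b)) ((fe _ _).1 e)))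
  have fI : ∀ (g : 𝐂(zpowers y)) {x : 𝐂(zpowers y)}, (x : G) ∈ Q → f x = f g * f ⟨z, hz⟩ * (f g)⁻¹ → g * z * (g : G)⁻¹ = x :=
    fun g x a e => M.lift hy (by rw [← conj_mul_conj, E.zz, mul_one, mul_inv_cancel]) a (mH.1 x.2)
      ((fe (g * ⟨z, hz⟩ * g⁻¹) x).1 (by rw [e, map_mul, map_mul, map_inv]))
  have h1 : f ⟨z, hz⟩ ≠ 1 := fun e => E.z_ne (M.dj hy E.mem ((f1 _).1 e))
  have s4 : M.lam s ∈ T4 b := ls ▸ orb_sub_T4 D.fix ⟨1, one_mem _, one_smul _ _⟩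
  have hs' : s ∈ 𝐂(zpowers y) := mH.2 ((r.comm_iff hy hs).2 s4.1)
  obtain ⟨sz, k, ky, kz⟩ := r.exists_conj hy hs s4
  have sz' : f ⟨s, hs'⟩ ≠ f ⟨z, hz⟩ := fun e => sz (congrArg Subtype.val (fQ _ _ hs E.mem e))
  have ex := ex_map f hz E.toEX h1 (fun x hx hc => by
      by_contra! hh
      obtain ⟨q, hq, qy, e⟩ := r.exists_move hy hx (mH.1 x.2)
        (fun e => hh.1 ((f1 _).2 (e ▸ one_mem _))) fun e => hh.2 (congrArg f (Subtype.ext e))
      rw [conj_eq_iff.2 (congrArg Subtype.val (hc ⟨q, mH.2 qy⟩ hq))] at e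
      exact E.z_ne (right_eq_mul.1 e))
    ⟨⟨s, hs'⟩, hs, fun e => (M.ne_of_lam hs (ls ▸ w8_ne)).1 (M.dj hy hs ((f1 _).1 e)), sz'⟩
  have hc : ∀ x : 𝐂(zpowers y), f x * f ⟨z, hz⟩ = f ⟨z, hz⟩ * f x → (x : G) * z = z * x :=
    fun x e => conj_eq_iff.1 (fI x E.mem (conj_eq_iff.2 e).symm)
  have rK : ∀ {x : G} {g : Co0}, x ∈ zpowers y → M.Rp x g → g ∈ KK b := fun a r' => by
    obtain ⟨i, rfl⟩ := mem_powers_iff_mem_zpowers.2 a
    exact mem_KK.2 ⟨i, r'.cases (r.pow i)⟩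
  have ofK : ∀ (x : 𝐂(zpowers y)) (g : Co0), M.Rp x g → g ∈ KK b →
      f x ∈ (Q.subgroupOf 𝐂(zpowers y)).map f := fun x g r' hg => by
    obtain ⟨i, e⟩ := mem_KK.1 hg
    have hy' : y ∈ 𝐂(zpowers y) := mH.2 rfl
    refine ⟨x * (⟨y, hy'⟩ ^ i)⁻¹, (r'.mul (r.pow i).inv).mem_Q_iff.2
      (e.imp (fun e => by rw [e, mul_inv_cancel]) fun e => by rw [e, mul_inv_cancel_right]), ?_⟩
    rw [map_mul, map_inv, (f1 (⟨y, hy'⟩ ^ i)).2 (pow_mem (mem_zpowers y) i), inv_one, mul_one]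
  have lq := lq_map f hz E hf ex hc fun x xz hx => by
    obtain ⟨g, r'⟩ := M.exists_Rp (mem_c1.2 xz)
    refine ofK x g r' (D.faith g (r.cent hb r' (mH.1 x.2)) fun v hv => ?_)
    obtain ⟨a, ha, ay, rfl⟩ := r.exists_lam hy (orb_sub_T4 D.fix hv).1
    rw [← r'.lam ha, mul_inv_eq_one.1 (M.dj hy (mul_mem (r'.conj_mem ha) (inv_mem ha))
      ((f1 _).1 (hx ⟨a, mH.2 ay⟩ ha)))]
  obtain ⟨θ, hθ⟩ : ∃ θ : 𝐂₁(f ⟨z, hz⟩) →* Held.L3, ∀ u l, θ u = l ↔
      ∃ (x : 𝐂(zpowers y)) (g : 𝐂₁(b)), f x = u ∧ M.Rp x g ∧ ψ g = l := by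
    refine exists_hom_of_rel _ (fun u => ?_) ?_ ?_
    · obtain ⟨x, e⟩ := hf u
      obtain ⟨g, r'⟩ := M.exists_Rp (mem_c1.2 (hc x (e ▸ mem_c1.1 u.2)))
      exact ⟨_, x, ⟨g, r.cent hb r' (mH.1 x.2)⟩, e, r', rfl⟩
    · rintro u _ _ ⟨x, g, e, r1, rfl⟩ ⟨x', g', e', r2, rfl⟩
      rw [← mul_inv_eq_one, ← map_inv, ← map_mul, ψk]
      exact rK ((fe _ _).1 (e.trans e'.symm)) (r1.mul r2.inv)
    · rintro u _ u' _ ⟨x, g, e, r1, rfl⟩ ⟨x', g', e', r2, rfl⟩
      exact ⟨x * x', g * g', by rw [map_mul, e, e']; rfl, r1.mul r2, map_mul _ _ _⟩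
  refine Held.he_of_star lq ?_ (π := θ) (fun l => ?_) (fun u => ?_) ⟨f ⟨k, mH.2 ky⟩, ?_⟩ ?_
  · rw [← Nat.card_congr (Equiv.ofBijective ((f.subgroupMap (Q.subgroupOf 𝐂(zpowers y))))
      ⟨fun a b e => Subtype.ext (fQ _ _ a.2 b.2 (congrArg Subtype.val e)),
        f.subgroupMap_surjective _⟩), ← inf_subgroupOf_right,
      Nat.card_congr (subgroupOfEquivOfLe inf_le_right).toEquiv, pow_succ', ← D.card, ← M.ncard_lam]
    exact congrArg Set.ncard (Set.ext fun x => and_congr_right fun a => mH.trans (r.comm_iff hy a))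
  · obtain ⟨g, rfl⟩ := ψs l
    obtain ⟨u, uy, r2⟩ := r.lift hy g.2
    exact ⟨⟨f ⟨u, mH.2 uy⟩, mem_c1.2 (by
      rw [← map_mul, ← map_mul]; exact congrArg f (Subtype.ext r2.comm))⟩, (hθ _ _).2 ⟨_, g, rfl, r2, rfl⟩⟩
  · exact (hθ _ _).trans ⟨fun ⟨x, g, e, r1, e'⟩ => e ▸ ofK x g r1 ((ψk g).1 e'),
      fun ⟨x, a, e⟩ => ⟨x, 1, e, Rp.of_mem_Q a, map_one ψ⟩⟩
  · have : f ⟨k, mH.2 ky⟩ * f ⟨z, hz⟩ * (f ⟨k, mH.2 ky⟩)⁻¹ = f ⟨s, hs'⟩ := by
      rw [← map_inv, ← map_mul, ← map_mul]; exact congrArg f (Subtype.ext kz)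
    exact this ▸ ⟨mem_map_of_mem f hs, sz'⟩
  · rintro g ⟨q, hq, e⟩ g2 _ ⟨x, hx, rfl⟩ x2 hc
    obtain ⟨g, rfl⟩ := hf g
    obtain ⟨u, hu⟩ := isConj_iff.1 hc
    obtain ⟨u, rfl⟩ := hf u
    obtain ⟨x', hx', e'⟩ := mem_cj.1 x2
    have a := fI g hq e
    have b := fI u hx hu.symm
    have c := fI (g⁻¹ * u) hx' (by rw [e', ← hu, map_mul, map_inv]; group)
    rw [← e, ← map_mul]
    refine (M.star hp r.comm (mH.1 g.2) (a ▸ hq) (fun p => g2 (e ▸ congrArg f (Subtype.ext (a ▸ p)))) hx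
      (mem_cj.2 ?_) (mH.1 x.2) (isConj_iff.2 ⟨_, b⟩)).imp (fun p => congrArg f (Subtype.ext p))
      (Or.imp (fun p => congrArg f (Subtype.ext (p.trans a))) fun p => congrArg f (Subtype.ext (p.trans (congrArg _ a))))
    convert (c.symm ▸ hx' : (g⁻¹ * u : 𝐂(zpowers y)) * z * ((g⁻¹ * u : 𝐂(zpowers y)) : G)⁻¹ ∈ Q) using 1
    rw [coe_subtype, ← b, coe_mul, coe_inv]; group

theorem no_inv (hs : s ∈ Q) (ls : M.lam s = w8) (r : M.Rp y b₇) {t : G} (tz : t * z = z * t) (ts : t * s = s * t) :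
    t * y * t⁻¹ ≠ y⁻¹ := fun e => by
  obtain ⟨g, r'⟩ := M.exists_Rp (mem_c1.2 tz)
  exact C7.no_inv (smul_w8_iff.1 (by rw [← ls, ← r'.lam hs, conj_eq_iff.2 ts]))
    (eq_of_pm (C7.main.1.ord ▸ by decide) ((r'.conj r).cases (e ▸ r.inv)))

theorem exists_inv (h : Pair Q P z s) (ls : M.lam s = w8) (r : M.Rp y b₇) (hp : orderOf y = 7) :
    ∃ t, t * t = 1 ∧ t * z = z * t ∧ t * y * t⁻¹ = y⁻¹ := by
  obtain ⟨x, xx, r1⟩ := exists_invol h ls C7.eps
  obtain ⟨u, r2⟩ := M.exists_Rp' (coEl C7.Yk 0)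
  replace r1 := r2.conj r1
  replace xx : u * x * u⁻¹ * (u * x * u⁻¹) = 1 := by rw [← conj_mul_conj, xx]; simp
  generalize u * x * u⁻¹ = x at xx r1
  have r3 := (r1.conj r).mul r.inv
  have b7 : b₇ ^ 7 = 1 := C7.main.1.ord ▸ pow_orderOf_eq_one _
  rw [C7.tau] at r3
  have q := (r3.pow 7).mem_Q_iff.2 (.inl (by rw [← sq, ← pow_mul, mul_comm, pow_mul, inv_pow, b7]; simp))
  obtain ⟨k, hk, e⟩ := r.conj7 hp (x := (x * y * x⁻¹ * y⁻¹) ^ 24) (by
    convert r3.pow 24 using 1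
    rw [← sq, ← pow_mul, inv_pow, eq_inv_iff_mul_eq_one, ← pow_succ', show 2 * 24 + 1 = 7 * 7 from rfl, pow_mul, b7,
      one_pow]) (by
    rw [← pow_mul, show 24 * 7 = 7 * 2 * 2 * 6 from rfl, pow_mul, pow_mul, pow_mul, sq (_ ^ 7)]
    rcases M.lq.sq _ q with e | e <;> simp [e, sq, M.lq.zz])
  refine ⟨k * x * k⁻¹, by rw [← conj_mul_conj, xx]; simp,
    mem_c1.1 (mul_mem (mul_mem hk r1.mem) (inv_mem hk)), ?_⟩
  rw [← e, conj_inv, conj_inv, ← conj_mul_conj, ← conj_mul_conj, ← conj_pow, ← inv_pow]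
  congr 3
  rw [← mul_assoc, ← mul_assoc, ← mul_assoc, xx, inv_eq_of_mul_eq_one_left xx]
  simp [inv_eq_of_mul_eq_one_left xx, mul_assoc]

theorem relIndex_eq (r : M.Rp y b₇) (hp : orderOf y = 7) {t : G} (ht : t * y * t⁻¹ = y⁻¹) :
    (𝐂(zpowers y)).relIndex 𝐍(zpowers y) = 6 := by
  obtain ⟨g, e⟩ := C7.nu
  obtain ⟨u, r'⟩ := M.exists_Rp' g
  have y7 : y ^ 7 = 1 := hp ▸ pow_orderOf_eq_one y
  obtain ⟨k, -, e⟩ := Rp.conj7 (e ▸ r.pow 2) (by rw [orderOf_pow, hp]; rfl) (r'.conj r) (by rw [conj_pow, y7]; simp)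
  have v : t * (k * u) * y * (t * (k * u))⁻¹ = y ^ 5 := by
    rw [show t * (k * u) * y * (t * (k * u))⁻¹ = t * (k * (u * y * u⁻¹) * k⁻¹) * t⁻¹ by group, e, ← conj_pow, ht,
      inv_pow, inv_eq_iff_mul_eq_one, ← pow_add, y7]
  generalize t * (k * u) = c at v
  have hc := Held.nz_of (v ▸ pow_mem (mem_zpowers y) 5)
  have vi : ∀ i : ℕ, c ^ i * y * (c ^ i)⁻¹ = y ^ 5 ^ i := fun i => by
    induction i with
    | zero => simp
    | succ i ih => rw [pow_succ' 5, pow_mul, ← v, conj_pow, ← ih, pow_succ']; group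
  have y1 : y ≠ 1 := fun e => by simp [e] at hp
  rw [centralizer_zpowers, Held.relIndex_c1_eq, show {x | ∃ c ∈ 𝐍(zpowers y), c * y * c⁻¹ = x} =
    (zpowers y : Set G) \ {1} from Set.ext fun x => ⟨?_, ?_⟩, Set.ncard_sdiff_singleton_of_mem (one_mem _),
    ← Nat.card_coe_set_eq, SetLike.coe_sort_coe, Nat.card_zpowers, hp]
  · rintro ⟨c, hc, rfl⟩
    exact ⟨conj_mem_of_mem_normalizer hc (mem_zpowers y), mt conj_eq_one_iff.1 y1⟩
  · rintro ⟨h1, h2⟩
    obtain ⟨n, rfl⟩ := mem_powers_iff_mem_zpowers.2 h1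
    obtain e | ⟨i, -, e⟩ := (by decide : ∀ m < 7, m = 0 ∨ ∃ i < 6, 5 ^ i % 7 = m) _ (Nat.mod_lt n (by decide))
    · exact (h2 (show y ^ n = 1 by rw [← pow_mod_orderOf, hp, e, pow_zero])).elim
    · exact ⟨_, pow_mem hc i, by rw [vi, ← pow_mod_orderOf, hp, e, ← hp, pow_mod_orderOf]⟩

end MT

theorem mem_layer {B : Subgroup G} [B.Normal] (e : G ⧸ B ≃* He) (hB : B ≤ center G) (h7 : ∀ b ∈ B, b ^ 7 = 1)
    {x : G} (xx : x * x = 1) : x ∈ layer G := by
  haveI := Comp.He.simple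
  haveI := e.isSimpleGroup
  have hn : ∀ N : Subgroup G, N.Normal → Group.IsSolvable N → N ≤ B := fun N _ _ => by
    refine (QuotientGroup.ker_mk' B).symm ▸ (Subgroup.map_eq_bot_iff _).1 ((Normal.map ‹_› _
      (QuotientGroup.mk'_surjective B)).eq_bot_or_eq_top.resolve_right fun k => ?_)
    have := Group.isSolvable_of_surjective (f := e.toMonoidHom.comp ((QuotientGroup.mk' B).comp N.subtype))
      (e.surjective.comp (MonoidHom.range_eq_top.1 (by rwa [MonoidHom.range_comp, range_subtype])))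
    letI : CommGroup He := ⟨IsSimpleGroup.comm_iff_isSolvable.2 this⟩
    exact absurd (Comp.He.card ▸ IsSimpleGroup.prime_card (α := He)) (by norm_num)
  obtain k | k := (Normal.map Sig.layer_normal _ (QuotientGroup.mk'_surjective B)).eq_bot_or_eq_top
  · rw [Subgroup.map_eq_bot_iff, QuotientGroup.ker_mk'] at k
    have k' := hn (fittingSubgroup G) inferInstance inferInstance
    have : ⊤ ≤ B := fun g _ => k' (Sig.centralizer_fstar_le_fitting fun a ha =>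
      (mem_center_iff.1 (hB (sup_le k k' ha)) g).symm)
    exact absurd (QuotientGroup.subsingleton_iff.2 (top_le_iff.1 this)) (not_subsingleton _)
  obtain ⟨l, hl, k⟩ := k.ge (mem_top (QuotientGroup.mk x))
  have k := QuotientGroup.eq.1 k
  have := Commute.mul_pow (mem_center_iff.1 (hB k) l) 7
  rw [h7 _ k, mul_one, mul_inv_cancel_left, pow_succ, show 6 = 2 * 3 from rfl, pow_mul, sq, xx, one_pow, one_mul] at this
  exact this ▸ pow_mem hl 7

theorem setup7 {z : G} {Q : Subgroup 𝐂₁(z)} [Q.Normal] (hM : IsOfMonsterType z Q) {s : G}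
    (hsQ : ∃ hsc : s ∈ 𝐂₁(z), (⟨s, hsc⟩ : 𝐂₁(z)) ∈ Q) (hs : IsConj z s) (hs1 : s ≠ z) {B : Subgroup G}
    (hB : B ≤ centralizer {z, s}) (hBp : Nat.card B = 7 ^ (Nat.card (centralizer {z, s})).factorization 7) :
    ∃ (Q' : Subgroup G) (M : MT Q' z) (y : G), s ∈ Q' ∧ M.lam s = w8 ∧
      M.Rp y (Leech.permHom (ev Leech.M.m C7.w)) ∧ orderOf y = 7 ∧ B = zpowers y := by
  obtain ⟨Q', M, a, b⟩ := setup hM hsQ hs hs1
  rw [cent_pair] at hB hBp
  rw [MT.card_L a b, show (2 ^ 35 * 244823040 : ℕ).factorization 7 = 1 by decide +kernel, pow_one] at hBp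
  obtain ⟨M', b', y, r⟩ := MT.exists_gen a b (by norm_num) (by norm_num) hBp hB (permHom_mem _)
    C7.main.1.ord (m := 4096 * 34974720) card_Mon (by norm_num)
  exact ⟨Q', M', y, a, b', r⟩

theorem MT.outer (hs : s ∈ Q) (ls : M.lam s = w8) (r : M.Rp y (Leech.permHom (ev Leech.M.m C7.w)))
    (hp : orderOf y = 7) {t : G} (ty : t * y * t⁻¹ = y⁻¹) :
    ¬ ∃ l ∈ (layer 𝐂(zpowers y)).map (𝐂(zpowers y)).subtype, ∀ x ∈ (layer 𝐂(zpowers y)).map (𝐂(zpowers y)).subtype,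
      t * x * t⁻¹ = l * x * l⁻¹ := by
  rintro ⟨_, ⟨l, -, rfl⟩, h⟩
  haveI := normal_subgroupOf_of_le_normalizer (centralizer_le_normalizer (zpowers y : Set G))
  obtain ⟨e⟩ := MT.he hs ls r hp
  have m : ∀ {x}, x * x = 1 → x * y = y * x → (l : G)⁻¹ * t * x = x * ((l : G)⁻¹ * t) := fun {x} a b => by
    have := h x ⟨⟨x, centralizer_zpowers y ▸ mem_c1.2 b⟩, mem_layer e (fun b hb => mem_center_iff.2 fun g =>
      Subtype.ext (g.2 _ hb).symm) (fun b hb => Subtype.ext (orderOf_dvd_iff_pow_eq_one.1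
        (hp ▸ orderOf_dvd_of_mem_zpowers hb))) (Subtype.ext a), rfl⟩
    rw [mul_assoc, eq_mul_of_mul_inv_eq this, coe_subtype]; group
  refine MT.no_inv hs ls r (m M.lq.zz r.comm.symm) (m ((M.sq_iff hs ls).2 (by rw [nm_e8]; decide))
    ((r.comm_iff (hp ▸ by decide) hs).2 (ls ▸ C7.main.1.fix))) ?_
  rw [show (l : G)⁻¹ * t * y * ((l : G)⁻¹ * t)⁻¹ = (l : G)⁻¹ * (t * y * t⁻¹) * l by group, ty, mul_assoc,
    l.2 _ (inv_mem (mem_zpowers y)), inv_mul_cancel_left]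

end CF.Known.Mon
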