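import Cfsg.Agent.Known.Mon.Cert

/-! Homomorphisms from centralizers in `Co0` given by actions on sets of fixed classes. -/

set_option autoImplicit false
set_option maxRecDepth 100000

namespace CF.Known.Mon

open Cfsg Subgroup CF.Leech CF.Loc CF.LX CF.Comp CF.Comp.Mat CF.Bt MulAction Spor
open scoped Pointwise

theorem smul_inc_pt {G Ω : Type*} [Group G] [MulAction G Ω] [DecidableEq Ω] {n n' : ℕ} {D : Dom Ω n}
    {Ts : List ℕ} {hl : Ts.length ≤ n} {hs : sorted Ts n' = true} {g : G}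
    (h : ∀ i < n, g • D.pt i = D.pt i) (i : ℕ) :
    g • (D.inc Ts n' hl hs).pt i = (D.inc Ts n' hl hs).pt i := by
  rw [Dom.inc_pt, Dom.fset, ← Finset.image_smul, Finset.image_image]
  exact Finset.image_congr fun j hj => h j (mem_bits.1 hj).1

theorem ker_eq {S K₀ : Subgroup Co0} {K : Type*} [Group K] (ψ : S →* K) (h0 : K₀ ≤ S)
    (h1 : ∀ x : S, (x : Co0) ∈ K₀ → ψ x = 1) {s : ℕ} (h2 : Nat.card S = s * Nat.card K₀)
    (h3 : s ≤ Nat.card ψ.range) : (∀ x, ψ x = 1 ↔ (x : Co0) ∈ K₀) ∧ Nat.card ψ.range = s := by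
  have c1 := card_eq_card_quotient_mul_card_subgroup ψ.ker
  have c2 := Nat.card_congr (subgroupOfEquivOfLe h0).toEquiv
  have l : K₀.subgroupOf S ≤ ψ.ker := h1
  have c3 := card_le_of_le l
  have p1 : 0 < Nat.card K₀ := Nat.card_pos
  have p2 : 0 < Nat.card S := Nat.card_pos
  rw [Nat.card_congr (QuotientGroup.quotientKerEquivRange ψ).toEquiv, h2] at c1
  have p3 : 0 < s := Nat.pos_of_mul_pos_right (h2 ▸ p2)
  have c4 : Nat.card ψ.ker ≤ Nat.card K₀ :=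
    Nat.le_of_mul_le_mul_left (c1 ▸ Nat.mul_le_mul_right _ h3) p3
  refine ⟨fun x => ?_, h3.antisymm' (Nat.le_of_mul_le_mul_right
    (c1 ▸ Nat.mul_le_mul_left _ (c2 ▸ c3)) p1)⟩
  rw [← MonoidHom.mem_ker, ← eq_of_le_of_card_ge l (c2 ▸ c4)]
  rfl

theorem fischer_data {C S K L : Type*} [Group C] [Group S] [Group K] [Group L] [Finite C] [Finite S]
    {θ : C →* K} (θs : Function.Surjective θ) {Q : Subgroup C} (θk : ∀ x, θ x = 1 ↔ x ∈ Q)
    {π : S →* K} (πs : Function.Surjective π) {S₁ N₀ : Subgroup S} [hn : N₀.Normal] (h1 : π.ker ≤ N₀)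
    (h2 : N₀ ≤ S₁) (hi : S₁.index = 2) (hc : Nat.card N₀ = 3 * Nat.card π.ker) {φ : S₁ →* L}
    (φs : Function.Surjective φ) (φk : ∀ x, φ x = 1 ↔ (x : S) ∈ N₀) :
    ∃ (N M : Subgroup C) (_ : N.Normal) (_ : M.Normal), Q ≤ N ∧ N ≤ M ∧
      Nat.card N = 3 * Nat.card Q ∧ Nonempty (M ⧸ N.subgroupOf M ≃* L) ∧ M.index = 2 := by
  have i : ∀ H : Subgroup S, π.ker ≤ H → ((H.map π).comap θ).index = H.index := fun H h => by
    rw [index_comap_of_surjective _ θs, index_map_eq _ πs h]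
  have i2 := (i _ (h1.trans h2)).trans hi
  haveI := (hn.map π πs).comap θ
  refine ⟨(N₀.map π).comap θ, (S₁.map π).comap θ, inferInstance, normal_of_index_eq_two i2,
    fun x hx => ?_, comap_mono (map_mono h2), ?_, ?_, i2⟩
  · rw [mem_comap, (θk x).2 hx]; exact one_mem _
  · have e : Q = (π.ker.map π).comap θ := by
      rw [(Subgroup.map_eq_bot_iff _).2 le_rfl]; exact Subgroup.ext fun x => (θk x).symm
    have c1 := ((N₀.map π).comap θ).card_mul_index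
    have c2 := Q.card_mul_index
    have c3 := N₀.card_mul_index
    have c4 := π.ker.card_mul_index
    rw [i _ h1] at c1
    rw [show Q.index = π.ker.index by rw [e, i _ le_rfl]] at c2
    have c5 : π.ker.index = 3 * N₀.index := Nat.eq_of_mul_eq_mul_left (Nat.card_pos (α := π.ker))
      (by rw [c4, ← c3, hc]; ring)
    refine Nat.eq_of_mul_eq_mul_right (Nat.pos_of_ne_zero (index_ne_zero_of_finite (H := N₀))) ?_
    rw [c1, ← c2, c5]; ring
  · obtain ⟨ρ, hρ⟩ := exists_hom_of_rel (fun (x : (S₁.map π).comap θ) (l : L) =>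
      ∃ y : S₁, π y = θ x ∧ φ y = l) (fun ⟨_, y, a, e⟩ => ⟨_, ⟨y, a⟩, e, rfl⟩) (by
        rintro x _ _ ⟨y, e, rfl⟩ ⟨y', e', rfl⟩
        rw [← mul_inv_eq_one, ← map_inv, ← map_mul, φk]
        refine h1 ?_
        rw [MonoidHom.mem_ker, coe_mul, coe_inv, map_mul, map_inv, e, e', mul_inv_cancel]) (by
        rintro x _ x' _ ⟨y, e, rfl⟩ ⟨y', e', rfl⟩
        exact ⟨y * y', by rw [coe_mul, coe_mul, map_mul, map_mul, e, e'], map_mul _ _ _⟩)
    refine ⟨(exists_quot_equiv (θ := ρ) (fun l => ?_) fun x => ?_).choose⟩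
    · obtain ⟨y, rfl⟩ := φs l
      obtain ⟨x, e⟩ := θs (π y)
      exact ⟨⟨x, y, y.2, e.symm⟩, (hρ _ _).2 ⟨y, e.symm, rfl⟩⟩
    · rw [hρ]
      exact ⟨fun ⟨y, e, k⟩ => ⟨y, (φk y).1 k, e⟩, fun ⟨y, k, e⟩ => ⟨⟨y, h2 k⟩, e, (φk _).2 k⟩⟩

namespace Cert

variable {w : List ℕ} {p d m s c o O₂ : ℕ} {Ys As : List (List ℕ)} {Ts : List ℕ}
  {N0 N1 : List Net} {W : List (List ℕ)} {L : Lvl} {t : List Lvl}
  (h : Cert w p d m s c o O₂ Ys As Ts N0 N1 W L t)
include h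

theorem KK_pt (hp : Odd p) {g : Co0} (hg : g ∈ KK (Leech.permHom (ev M.m w))) (i : ℕ)
    (hi : i < 2 ^ d) : g • (wDom Ts _ h.pr).pt i = (wDom Ts _ h.pr).pt i :=
  KK_fix hg ((h.fix_eq hp).ge (Dom.mem_set_full.2 ⟨i, hi, rfl⟩))

variable {n k : ℕ} {Ts' : List ℕ} {N2 N3 : List Net} {W' : List (List ℕ)} {c' : List Lvl}

open _root_.Classical in
theorem exists_surj (hp : p.Prime) (h2 : p ≠ 2)
    (hA : clo (coEl Ys) (gensW m) = 𝐂₁(Leech.permHom (ev M.m w)))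
    (hS : Nat.card 𝐂₁(Leech.permHom (ev M.m w)) = s * (2 * p)) (hl : Ts'.length ≤ 2 ^ d)
    (hs : sorted Ts' n = true) (hi : incOK N0 N2 Ts' (2 ^ d) n = true)
    (hc : ChainGe N2 N3 n k m W' c' s) {K : Type} [Group K] [Finite K] (hK : HasReps K n N2 m)
    (cK : Nat.card K = s) : ∃ ψ : 𝐂₁(Leech.permHom (ev M.m w)) →* K, Function.Surjective ψ ∧
      ∀ x, ψ x = 1 ↔ (x : Co0) ∈ KK (Leech.permHom (ev M.m w)) := by
  obtain ⟨ψ, a, b⟩ := hA ▸ hc.exists_surj (h.reps.inc hl hs hi) h.ge hK cK.le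
  exact ⟨ψ, a, (ker_eq ψ (KK_le_cent _)
    (fun x hx => (b x).2 fun i _ => smul_inc_pt (h.KK_pt (hp.odd_of_ne_two h2) hx) i)
    (by rw [hS, card_KK hp h2 (h.orderOf_eq hp)])
    (by rw [MonoidHom.range_eq_top.2 a, card_top, cK])).1⟩

open _root_.Classical in
theorem exists_perm (hp : p.Prime) (h2 : p ≠ 2)
    (hA : clo (coEl Ys) (gensW m) = 𝐂₁(Leech.permHom (ev M.m w)))
    (hS : Nat.card 𝐂₁(Leech.permHom (ev M.m w)) = s * (2 * p)) (hl : Ts'.length ≤ 2 ^ d)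
    (hs : sorted Ts' n = true) (hi : incOK N0 N2 Ts' (2 ^ d) n = true)
    (hc : ChainGe N2 N3 n k m W' c' s) {Ω : Type} [Finite Ω] {D : Dom Ω n} (hD : D.Full)
    {B : Subgroup (Equiv.Perm Ω)} (hB : Nat.card (clo (D.els N2) (gensW m)) = s →
      clo (D.els N2) (gensW m) = B) : ∃ ψ : 𝐂₁(Leech.permHom (ev M.m w)) →* B,
      Function.Surjective ψ ∧ ∀ x, ψ x = 1 ↔ (x : Co0) ∈ KK (Leech.permHom (ev M.m w)) := by
  have R := h.reps.inc hl hs hi
  have R' := hD.reps R.wf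
  obtain ⟨ψ, a, b, -⟩ := exists_hom' R R' hA rfl (hD.faithful _)
  have k := ker_eq ψ (KK_le_cent _)
    (fun x hx => (b x).2 fun i _ => smul_inc_pt (h.KK_pt (hp.odd_of_ne_two h2) hx) i)
    (by rw [hS, card_KK hp h2 (h.orderOf_eq hp)]) ((Comp.ble_iff.1 hc.prod).trans
      ((hc.reps R' fun i hi => hD.els_eq_one (hc.len ▸ hi)).chain_le hc.lt hc.ok
        (a ▸ clo_slp (f := D.els N2) (lettersLe_gensW m) W' ▸ clo_le_of_slpIn hc.mem)))
  obtain rfl := a.trans (hB (a ▸ k.2))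
  exact ⟨ψ.rangeRestrict, ψ.rangeRestrict_surjective, fun x =>
    Subtype.ext_iff.trans (k.1 x)⟩

end Cert

/-! ### the wreath product -/

theorem card_wreath_le : Nat.card alternatingFiveWreathTwo ≤ 7200 := by
  let F : alternatingGroup (Fin 5) × alternatingGroup (Fin 5) × Bool → Equiv.Perm (Fin 5 ⊕ Fin 5) :=
    fun x => Equiv.Perm.sumCongr x.1.1 x.2.1.1 * if x.2.2 then Equiv.sumComm _ _ else 1
  have sw : ∀ σ τ : Equiv.Perm (Fin 5), Equiv.sumComm (Fin 5) (Fin 5) * Equiv.Perm.sumCongr σ τ =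
      Equiv.Perm.sumCongr τ σ * Equiv.sumComm _ _ := fun σ τ => Equiv.ext (by rintro (x | x) <;> rfl)
  have ss : Equiv.sumComm (Fin 5) (Fin 5) * Equiv.sumComm (Fin 5) (Fin 5) = 1 :=
    Equiv.ext (by rintro (x | x) <;> rfl)
  have key : ∀ g ∈ alternatingFiveWreathTwo, g ∈ Set.range F := fun g hg => by
    refine closure_induction_left (p := fun g _ => g ∈ Set.range F) ⟨(1, 1, false), by simp [F]⟩
      ?_ ?_ hg
    · rintro _ (⟨σ, τ, rfl⟩ | rfl) _ _ ⟨⟨a, b, e⟩, rfl⟩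
      · exact ⟨(σ * a, τ * b, e), by simp [F, ← mul_assoc, Equiv.Perm.sumCongr_mul]⟩
      · refine ⟨(b, a, !e), ?_⟩
        cases e <;> simp [F, ← mul_assoc, sw]
        rw [mul_assoc, ss, mul_one]
    · rintro _ (⟨σ, τ, rfl⟩ | rfl) _ _ ⟨⟨a, b, e⟩, rfl⟩
      · exact ⟨(σ⁻¹ * a, τ⁻¹ * b, e), by simp [F, ← mul_assoc, Equiv.Perm.sumCongr_mul]⟩
      · refine ⟨(b, a, !e), ?_⟩
        rw [inv_eq_of_mul_eq_one_left ss]
        cases e <;> simp [F, ← mul_assoc, sw]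
        rw [mul_assoc, ss, mul_one]
  refine (Set.ncard_le_ncard key).trans ?_
  rw [← Set.image_univ]
  refine (Set.ncard_image_le (Set.toFinite _)).trans ?_
  rw [Set.ncard_univ, Nat.card_prod, Nat.card_prod, nat_card_alternatingGroup]
  simp [Nat.factorial]

theorem exists_ok_nine {K : Type*} [Field K] [Fintype K] (h : Fintype.card K = 9) :
    ∃ el : ℕ → K, (tabQ 3 2 0).Ok el := by
  have : Fact (Nat.Prime 3) := ⟨by decide⟩
  have : CharP K 3 := charP_of_card_eq_prime_pow (R := K) (p := 3) (f := 2) h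
  obtain ⟨ω, hω⟩ := FiniteField.isSquare_neg_one_iff.2 (show Fintype.card K % 4 ≠ 3 by rw [h]; decide)
  have h3 : (3 : K) = 0 := by exact_mod_cast CharP.cast_eq_zero K 3
  exact ⟨_, tabQ_ok 3 2 0 (by decide) (ω := ω) (by push_cast; linear_combination -hω - h3) (by decide)⟩

end CF.Known.Mon
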