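import Cfsg.Agent.Known.Mon.C3A
import Cfsg.Agent.Known.Mon.C3B

/-! Groups of Monster type: elements of order 3 centralizing two conjugate involutions. -/

set_option autoImplicit false

namespace CF.Known.Mon

open Cfsg Subgroup CF.Leech CF.Loc CF.LX CF.Comp MulAction Spor

theorem MT.exists_three {G : Type*} [Group G] [Finite G] {Q : Subgroup G} {z s y : G} {M : MT Q z}
    (hs : s ∈ Q) (ls : M.lam s = w8) (hy : orderOf y = 3) (h : y ∈ 𝐂₁(z) ⊓ 𝐂₁(s)) :
    ∃ M' : MT Q z, M'.lam s = w8 ∧ (M'.Rp y (permHom (ev Leech.M.m C3A.w)) ∨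
      M'.Rp y (permHom (ev Leech.M.m C3B.w))) := by
  obtain ⟨P⟩ : Nonempty (Sylow 3 M24) := inferInstance
  obtain ⟨M', a, _, ⟨σ, -, rfl⟩, r, o⟩ := MT.exists_syl hs ls (by norm_num) (by norm_num) hy h
    (P := (P : Subgroup M24).map permHom) (by rintro _ ⟨σ, -, rfl⟩; exact permHom_mem σ)
    (m := 4096 * 9067520) (by
      rw [card_map_of_injective permHom_injective, P.card_eq_multiplicity, card_Mon, Mat.card_M24]
      decide +kernel) (by norm_num)
  have key : ∀ x τ, x * σ * x⁻¹ = τ → (M'.twist (permHom x)).Rp y (permHom τ) := by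
    rintro x _ rfl
    rw [map_mul, map_mul, map_inv]
    exact (M'.twist_Rp _).2 r
  rcases C3A.classes3 ((orderOf_injective _ permHom_injective _).symm.trans o) with ⟨x, e⟩ | ⟨x, e⟩
  exacts [⟨_, MT.twist_w8 a (permHom_mem x), Or.inl (key x _ e)⟩,
    ⟨_, MT.twist_w8 a (permHom_mem x), Or.inr (key x _ e)⟩]

end CF.Known.Mon
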